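import Cfsg.Agent.H87.Inv

/-!
Root involution sets: the components of the commuting graph.
-/

set_option autoImplicit false

namespace Cfsg.Agent.H3.RootInv

open Subgroup Cfsg.Agent.H87

variable {G : Type*} [Group G] {D : Set G}

/-- Two elements lie in one component of the commuting graph. -/
def Same (D : Set G) (a b : G) : Prop := Relation.ReflTransGen (Cfsg.CommAdj D) a b

theorem same_refl (a : G) : Same D a a := Relation.ReflTransGen.refl

theorem same_trans {a b c : G} (h : Same D a b) (h' : Same D b c) : Same D a c :=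
  Relation.ReflTransGen.trans h h'

theorem same_symm {a b : G} (h : Same D a b) : Same D b a := by
  induction h with
  | refl => exact Relation.ReflTransGen.refl
  | tail _ hbc ih => exact Relation.ReflTransGen.head ⟨hbc.2.1, hbc.1, hbc.2.2.1.symm, hbc.2.2.2.symm⟩ ih

theorem same_mem {a b : G} (ha : a ∈ D) (h : Same D a b) : b ∈ D := by
  induction h with
  | refl => exact ha
  | tail _ hbc _ => exact hbc.2.1

theorem same_of_commute {a b : G} (ha : a ∈ D) (hb : b ∈ D) (h : Commute a b) : Same D a b := by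
  rcases eq_or_ne a b with rfl | hne
  · exact same_refl a
  · exact Relation.ReflTransGen.single ⟨ha, hb, hne, h.eq⟩

theorem same_conj {a b : G} (hD : Cfsg.IsRootInvolutionSet D) (g : G) (h : Same D a b) :
    Same D (g * a * g⁻¹) (g * b * g⁻¹) := by
  induction h with
  | refl => exact Relation.ReflTransGen.refl
  | tail _ hbc ih =>
    refine ih.tail ⟨hD.conj_mem _ hbc.1 g, hD.conj_mem _ hbc.2.1 g, fun e => hbc.2.2.1 (by simpa using e), ?_⟩
    exact ((show Commute _ _ from hbc.2.2.2).map (MulAut.conj g).toMonoidHom).eq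

/-- An invariant equivalence on a root involution set containing the commuting relation. -/
structure BlockRel (D : Set G) (R : G → G → Prop) : Prop where
  root : Cfsg.IsRootInvolutionSet D
  refl : ∀ a, R a a
  symm : ∀ {a b}, R a b → R b a
  trans : ∀ {a b c}, R a b → R b c → R a c
  conj : ∀ {a b} (g : G), R a b → R (g * a * g⁻¹) (g * b * g⁻¹)
  of_commute : ∀ {a b}, a ∈ D → b ∈ D → Commute a b → R a b

/-- The components of the commuting graph. -/
theorem blockRel_same (hD : Cfsg.IsRootInvolutionSet D) : BlockRel D (Same D) :=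
  ⟨hD, same_refl, same_symm, same_trans, fun g h => same_conj hD g h, same_of_commute⟩

namespace BlockRel

variable {R : G → G → Prop} (E : BlockRel D R)
include E

theorem conj_iff {a b : G} (g : G) : R (g * a * g⁻¹) (g * b * g⁻¹) ↔ R a b := by
  refine ⟨fun h => ?_, E.conj g⟩
  have := E.conj g⁻¹ h
  simpa [mul_assoc] using this

/-- The stabiliser of the block of `e`. -/
def stab (e : G) : Subgroup G where
  carrier := {g | R e (g * e * g⁻¹)}
  one_mem' := by simp [E.refl]
  mul_mem' := fun {g h} hg hh => by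
    show R e (g * h * e * (g * h)⁻¹)
    rw [show g * h * e * (g * h)⁻¹ = g * (h * e * h⁻¹) * g⁻¹ by group]
    exact E.trans hg (E.conj g hh)
  inv_mem' := fun {g} hg => by
    show R e (g⁻¹ * e * g⁻¹⁻¹)
    have := E.symm (E.conj g⁻¹ hg)
    simpa [mul_assoc] using this

theorem mem_stab {g e : G} : g ∈ E.stab e ↔ R e (g * e * g⁻¹) := Iff.rfl

theorem mem_stab_self {e g : G} (h : R e g) : g ∈ E.stab e := by
  rw [mem_stab]
  have h1 := E.conj g h
  rw [show g * g * g⁻¹ = g by group] at h1
  exact E.trans h (E.symm h1)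

theorem odd_of_not {a b : G} (ha : a ∈ D) (hb : b ∈ D) (h : ¬ R a b) : Cfsg.OddAdj D a b := by
  rcases Inv.cases' E.root ha hb with h' | h' | h'
  · exact absurd (E.of_commute ha hb h') h
  · exact h'
  · obtain ⟨hs, hsa, hsb, -, -, -⟩ := Inv.four_data E.root h'
    exact absurd (E.trans (E.of_commute ha hs hsa.symm) (E.of_commute hs hb hsb)) h

/-- A member fixes only its own block. -/
theorem rel_of_mem_stab {d e : G} (hd : d ∈ D) (he : e ∈ D) (h : d ∈ E.stab e) : R e d := by
  by_contra hne
  obtain ⟨k, hk⟩ := (E.odd_of_not he hd hne).2.2.2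
  have hmem : e * d ∈ E.stab e := mul_mem (E.mem_stab_self (E.refl e)) h
  have hg := pow_mem hmem k
  rw [mem_stab, Inv.pow_conj (e * d) e ?_ k] at hg
  · apply hne
    have h1 : (e * d) ^ (2 * k) = (e * d)⁻¹ := by
      apply eq_inv_of_mul_eq_one_left
      rw [← pow_succ, ← hk, pow_orderOf_eq_one]
    rwa [h1, Inv.mul_inv_eq E.root he hd, mul_assoc, Inv.sq_eq E.root he, mul_one] at hg
  · rw [Inv.inv_eq E.root he, Inv.mul_inv_eq E.root he hd, Inv.self_mul_cancel E.root he]

end BlockRel

section InD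

variable (hD : Cfsg.IsRootInvolutionSet D)
include hD

/-- The middle of two members with product of odd order. -/
theorem exists_middle {e e' : G} (h : Cfsg.OddAdj D e e') :
    ∃ f, f ∈ D ∧ f * e * f⁻¹ = e' ∧ (∀ x, Commute x e → Commute x e' → Commute x f) ∧
      ∀ x, x * e * x⁻¹ = e' → x * e' * x⁻¹ = e → Commute x f := by
  obtain ⟨he, he', hne, j, hj⟩ := Inv.odd_symm hD h |> fun h' => (⟨h'.2.1, h'.1, h'.2.2.1.symm, h'.2.2.2⟩ :
    e ∈ D ∧ e' ∈ D ∧ e ≠ e' ∧ Odd (orderOf (e' * e)))
  set r := e' * e with hr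
  have hrm : r ^ (2 * (j + 1)) = r := by
    rw [show 2 * (j + 1) = orderOf r + 1 by omega, pow_succ, pow_orderOf_eq_one, one_mul]
  have her : e * r * e⁻¹ = r⁻¹ := by
    rw [hr, Inv.inv_eq hD he, Inv.mul_inv_eq hD he' he, mul_assoc, mul_assoc e', Inv.sq_eq hD he, mul_one]
  set f := r ^ (j + 1) * e with hf
  have hfconj : f = r ^ ((j + 1) * (j + 1)) * e * (r ^ ((j + 1) * (j + 1)))⁻¹ := by
    rw [Inv.pow_conj r e her, ← mul_assoc, pow_mul, hrm]
  refine ⟨f, hfconj ▸ hD.conj_mem e he _, ?_, ?_, ?_⟩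
  · rw [hf, show r ^ (j + 1) * e * e * (r ^ (j + 1) * e)⁻¹ =
        r ^ (j + 1) * (e * e) * e⁻¹ * (r ^ (j + 1))⁻¹ by group, Inv.sq_eq hD he, mul_one, Inv.inv_eq hD he,
      Inv.pow_conj r e her, hrm, hr, mul_assoc, Inv.sq_eq hD he, mul_one]
  · intro x hx hx'
    exact ((hx'.mul_right hx).pow_right _).mul_right hx
  · intro x hx hx'
    have hxr : x * r * x⁻¹ = r⁻¹ := by
      rw [hr, show x * (e' * e) * x⁻¹ = x * e' * x⁻¹ * (x * e * x⁻¹) by group, hx, hx',
        Inv.mul_inv_eq hD he' he]
    have h1 : x * f * x⁻¹ = f := by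
      rw [hf, show x * (r ^ (j + 1) * e) * x⁻¹ = x * r ^ (j + 1) * x⁻¹ * (x * e * x⁻¹) by group, hx,
        ← conj_pow, hxr]
      apply mul_left_cancel (a := r ^ (j + 1))
      rw [inv_pow, mul_inv_cancel_left, ← mul_assoc, ← pow_add, ← two_mul, hrm, hr, mul_assoc,
        Inv.sq_eq hD he, mul_one]
    show x * f = f * x
    calc x * f = x * f * x⁻¹ * x := by group
      _ = f * x := by rw [h1]

end InD

/-- Members in different blocks are conjugate by an element centralising everything centralising both. -/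
theorem BlockRel.exists_conj_of_not {R : G → G → Prop} (E : BlockRel D R) {a b : G} (ha : a ∈ D) (hb : b ∈ D)
    (h : ¬ R a b) : ∃ g : G, g * a * g⁻¹ = b ∧ ∀ x, Commute x a → Commute x b → Commute x g :=
  let ⟨f, _, h1, h2, _⟩ := exists_middle E.root (E.odd_of_not ha hb h)
  ⟨f, h1, h2⟩

end Cfsg.Agent.H3.RootInv
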