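import Cfsg.Agent.H3.RootInv.Main
import Cfsg.Agent.H70.RootInv.Final
import Cfsg.Agent.H76.OddT.Class

/-!
The statements on root involutions and odd transpositions which follow from the strong embedding criterion.
-/

set_option autoImplicit false

namespace Cfsg.Agent.H3.RootInv

universe u

/-- S5050 from the criterion. -/
theorem common_neighbour_of_core (hCore : CoreHyp.{u}) {G : Type u} [Group G] [Finite G] {D : Set G}
    (hD : Cfsg.IsOddTranspositionSet D) (hcl : Cfsg.IsRootInvolutionClass D)
    (hc : Cfsg.IsConnectedSet (Cfsg.CommAdj D) D) (hDD : (D ∩ Cfsg.commutingProducts D).Nonempty)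
    {d x : G} (hd : d ∈ D) (hx : x ∈ Cfsg.oddPartners D d) : ∃ e ∈ D, e * d = d * e ∧ e * x = x * e :=
  H76.OddT.common_neighbour (goodHyp_of_core hCore) hD hcl hc hDD hd hx

/-- S5053 from the criterion. -/
theorem weakTI_abelian_of_core (hCore : CoreHyp.{u}) {G : Type u} [Group G] [Finite G] {D : Set G}
    (hD : Cfsg.IsNondegenerateRootInvolutionSet D) (hcl : Cfsg.IsRootInvolutionClass D) {T : Set G}
    (hT : Cfsg.IsWeakTISubsetOfElements D T) : IsMulCommutative ↥(Subgroup.closure T) :=
  H70.RootInv.weak_ti_abelian (goodHyp_of_core hCore) hD hcl hT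

/-- S5054 from the criterion. -/
theorem generation_of_core (hCore : CoreHyp.{u}) {G : Type u} [Group G] [Finite G] {D : Set G}
    (hD : Cfsg.IsNondegenerateRootInvolutionSet D) (hcl : Cfsg.IsRootInvolutionClass D) :
    (∀ d ∈ D, ∀ x ∈ Cfsg.oddPartners D d, Subgroup.closure (Cfsg.productPartners D d ∪ {x}) = ⊤) ∧
    Cfsg.IsConnectedSet (Cfsg.ProdAdj D) D :=
  H70.RootInv.nondegenerate_generation (goodHyp_of_core hCore) hD hcl

end Cfsg.Agent.H3.RootInv
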