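import Cfsg.Agent.H76.PostBender.Main
import Cfsg.Agent.H24.Gaschuetz

/-!
A group generated by a class of involutions lifting the involutions of a Bender group, with no commuting members
multiplying to a non-trivial central element, has no central involution.

The only data needed of the quotient: its elements of `2`-power order have order at most 4, and each one of order
4 lies with two others in a 2-subgroup such that the seven non-trivial combinations are conjugate modulo involutions.
-/

set_option autoImplicit false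
set_option linter.style.haveILetI false

namespace Cfsg.Agent.H3.RootInv.CoverFree

open Subgroup
open scoped commutatorElement

universe u

variable {Q : Type*} [Group Q]

/-- `y` is conjugate to `x` up to an involution commuting with it. -/
def Near (x y : Q) : Prop := ∃ g z : Q, z * z = 1 ∧ Commute z (g * x * g⁻¹) ∧ y = g * x * g⁻¹ * z

/-- The fourth-order elements of `2`-power order come in seven conjugate combinations. -/
def FourType (Q : Type*) [Group Q] : Prop :=
  ∀ x : Q, (∃ k, x ^ (2 ^ k) = 1) → x * x ≠ 1 → x * x * (x * x) = 1 ∧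
    ∃ W : Subgroup Q, IsPGroup 2 W ∧ ∃ a ∈ W, ∃ b ∈ W, x ∈ W ∧ Near x a ∧ Near x b ∧ Near x (x * a) ∧
      Near x (x * b) ∧ Near x (a * b) ∧ Near x (x * a * b)

/-- Involutions are conjugate, and those in a common 2-subgroup commute with it. -/
structure InvData (Q : Type*) [Group Q] : Prop where
  conj : ∀ s t : Q, orderOf s = 2 → orderOf t = 2 → ∃ g : Q, g * s * g⁻¹ = t
  comm : ∀ P : Subgroup Q, IsPGroup 2 P → ∀ s ∈ P, s * s = 1 → ∀ y ∈ P, Commute s y
  center : Subgroup.center Q = ⊥

/-- The abstract situation, with a kernel of order two. -/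
structure Setup {L : Type u} [Group L] (π : L →* Q) (D : Set L) (c : L) : Prop where
  surj : Function.Surjective π
  gen : closure D = ⊤
  sq : ∀ d ∈ D, d * d = 1 ∧ d ≠ 1
  conj : ∀ d ∈ D, ∀ g : L, g * d * g⁻¹ ∈ D
  perfect : commutator L = ⊤
  ne : c ≠ 1
  csq : c * c = 1
  central : ∀ g : L, Commute c g
  ker : ∀ x : L, π x = 1 → x = 1 ∨ x = c
  free : ∀ A : Set L, A ⊆ D → (∀ a ∈ A, ∀ b ∈ A, Commute a b) → c ∉ closure A

namespace Setup

variable {L : Type u} [Group L] [Finite L] {π : L →* Q} {D : Set L} {c : L} (S : Setup π D c) (I : InvData Q)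
include S

omit [Finite L] in
theorem member_ne {d : L} (hd : d ∈ D) : π d ≠ 1 := fun h =>
  (S.ker d h).elim (S.sq d hd).2 fun e => S.free {d} (Set.singleton_subset_iff.mpr hd)
    (by rintro a rfl b rfl; exact Commute.refl _) (e ▸ subset_closure rfl)

include I

omit [Finite L] in
theorem π_c : π c = 1 := by
  obtain ⟨g, hg⟩ : ∃ g, g ∈ π.ker ∧ g ≠ 1 := by
    by_contra h
    push Not at h
    have hinj : Function.Injective π := (MonoidHom.ker_eq_bot_iff π).mp (eq_bot_iff.mpr fun g hg => h g hg)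
    have hc : π c ∈ Subgroup.center Q := mem_center_iff.mpr fun y => by
      obtain ⟨x, rfl⟩ := S.surj y
      rw [← map_mul, ← map_mul, (S.central x).eq]
    exact S.ne (hinj (by rw [map_one]; exact mem_bot.mp (I.center ▸ hc)))
  exact (S.ker g hg.1).resolve_left hg.2 ▸ hg.1

omit [Finite L] in
/-- Every involution of the quotient is the image of a member. -/
theorem exists_member {s : Q} (hs : orderOf s = 2) : ∃ d ∈ D, π d = s := by
  obtain ⟨d, hd⟩ : ∃ d, d ∈ D := by
    by_contra h
    push Not at h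
    have htop : (⊤ : Subgroup L) = ⊥ := S.gen ▸ (closure_eq_bot_iff.mpr fun x hx => absurd hx (h x))
    exact S.ne (mem_bot.mp (htop ▸ mem_top c))
  obtain ⟨g, hg⟩ := I.conj (π d) s (orderOf_eq_prime (by rw [pow_two, ← map_mul, (S.sq d hd).1, map_one])
    (S.member_ne hd)) hs
  obtain ⟨w, rfl⟩ := S.surj g
  exact ⟨w * d * w⁻¹, S.conj d hd w, by rw [← hg]; simp⟩

omit [Finite L] in
/-- An element whose image commutes with that of a member commutes with the member. -/
theorem commute_lift {d y : L} (hd : d ∈ D) (h : Commute (π d) (π y)) : Commute d y := by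
  have h1 : π (d⁻¹ * (y * d * y⁻¹)) = 1 := by
    rw [map_mul, map_mul, map_mul, map_inv, map_inv, ← h.eq]; group
  rcases S.ker _ h1 with h2 | h2
  · show d * y = y * d
    calc d * y = y * d * y⁻¹ * y := by rw [← inv_mul_eq_one.mp h2]
      _ = y * d := by group
  · exfalso
    refine S.free {d, y * d * y⁻¹} ?_ ?_ (h2 ▸ mul_mem (inv_mem (subset_closure (Set.mem_insert _ _)))
      (subset_closure (Set.mem_insert_of_mem _ rfl)))
    · exact Set.insert_subset hd (Set.singleton_subset_iff.mpr (S.conj d hd y))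
    · have hcomm : Commute d (y * d * y⁻¹) := by
        rw [show y * d * y⁻¹ = d * c by rw [← h2, mul_inv_cancel_left]]
        exact (Commute.refl d).mul_right (S.central d).symm
      rintro a (rfl | rfl) b (rfl | rfl) <;>
        first | exact Commute.refl _ | exact hcomm | exact hcomm.symm

omit [Finite L] in
theorem sq_eq_one_of_image {y : L} (hy : π y * π y = 1) : y * y = 1 := by
  have h2 : ∀ d : L, d * d = 1 → d * c * (d * c) = 1 := fun d hd => by
    rw [mul_assoc, ← mul_assoc c, (S.central d).eq, mul_assoc d c, S.csq, mul_one, hd]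
  by_cases h1 : π y = 1
  · rcases S.ker y h1 with rfl | rfl
    · exact one_mul 1
    · exact S.csq
  obtain ⟨d, hd, hdy⟩ := S.exists_member I (orderOf_eq_prime (by rw [pow_two, hy]) h1)
  rcases S.ker (d⁻¹ * y) (by rw [map_mul, map_inv, hdy, inv_mul_cancel]) with h | h
  · rw [← inv_mul_eq_one.mp h]; exact (S.sq d hd).1
  · rw [show y = d * c by rw [← h, mul_inv_cancel_left]]
    exact h2 d (S.sq d hd).1

/-- The members and `1` in a subgroup with 2-group image: their closure is central in it and does not contain `c`. -/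
theorem inner_props {P : Subgroup L} (hP : IsPGroup 2 P) :
    c ∉ closure (D ∩ P) ∧ closure (D ∩ P) ≤ P ∧ ∀ z ∈ closure (D ∩ P), ∀ y ∈ P, Commute z y := by
  have hc : ∀ d ∈ D ∩ P, ∀ y ∈ P, Commute d y := fun d hd y hy =>
    S.commute_lift I hd.1 (I.comm (P.map π) (hP.map π) (π d) (mem_map_of_mem π hd.2)
      (by rw [← map_mul, (S.sq d hd.1).1, map_one]) (π y) (mem_map_of_mem π hy))
  refine ⟨S.free _ Set.inter_subset_left fun a ha b hb => hc a ha b hb.2,
    (closure_le _).2 Set.inter_subset_right, fun z hz y hy => ?_⟩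
  induction hz using closure_induction with
  | mem d hd => exact hc d hd y hy
  | one => exact Commute.one_left y
  | mul a b _ _ ha hb => exact ha.mul_left hb
  | inv a _ ha => exact ha.inv_left

variable (h4 : FourType Q)
include h4

/-- The square of an element of 2-power order lying over an element of order four is a member. -/
theorem sq_mem {x : L} (hx : ∃ k, x ^ (2 ^ k) = 1) (hne : π x * π x ≠ 1) : x * x ∈ D := by
  obtain ⟨hx4, W, hW, a, ha, b, hb, hxW, na, nb, nxa, nxb, nab, nxab⟩ :=
    h4 (π x) (hx.imp fun k hk => by rw [← map_pow, hk, map_one]) hne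
  obtain ⟨d, hd, hdx⟩ := S.exists_member I (s := π x * π x) (orderOf_eq_prime (by rw [pow_two, hx4]) hne)
  rcases S.ker (d⁻¹ * (x * x)) (by rw [map_mul, map_inv, map_mul, hdx, inv_mul_cancel]) with h | h
  · rw [← inv_mul_eq_one.mp h]; exact hd
  exfalso
  have hxx : x * x = d * c := by rw [← h, mul_inv_cancel_left]
  -- lifts near `x` square to a member times `c`
  have near : ∀ w : L, Near (π x) (π w) → ∃ e ∈ D, w * w = e * c := by
    rintro w ⟨g, z, hz, hzc, hw⟩
    obtain ⟨g, rfl⟩ := S.surj g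
    obtain ⟨z, rfl⟩ := S.surj z
    set x' := g * x * g⁻¹ with hx'
    have hx'c : Commute z x' := by
      have hπ : Commute (π z) (π x') := by simpa [x'] using hzc
      by_cases h1 : π z = 1
      · rcases S.ker z h1 with rfl | rfl
        · exact Commute.one_left _
        · exact S.central _
      obtain ⟨e, he, hez⟩ := S.exists_member I (orderOf_eq_prime (by rw [pow_two, hz]) h1)
      have he' : Commute e x' := S.commute_lift I he (by rw [hez]; exact hπ)
      rcases S.ker (e⁻¹ * z) (by rw [map_mul, map_inv, hez, inv_mul_cancel]) with h' | h'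
      · rwa [← inv_mul_eq_one.mp h']
      · rw [show z = e * c by rw [← h', mul_inv_cancel_left]]
        exact he'.mul_left (S.central _)
    refine ⟨g * d * g⁻¹, S.conj d hd g, ?_⟩
    have hw' : π ((x' * z)⁻¹ * w) = 1 := by
      rw [map_mul, map_inv, hw]; simp only [x', map_mul, map_inv]; group
    have hz1 := S.sq_eq_one_of_image I hz
    have hsq : x' * z * (x' * z) = g * d * g⁻¹ * c := by
      rw [mul_assoc, ← mul_assoc z, hx'c.eq, mul_assoc x' z, hz1, mul_one, hx',
        show g * x * g⁻¹ * (g * x * g⁻¹) = g * (x * x) * g⁻¹ by group, hxx,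
        show g * (d * c) * g⁻¹ = g * d * (c * g⁻¹) by group, (S.central g⁻¹).eq]
      group
    rcases S.ker _ hw' with h' | h'
    · rw [← inv_mul_eq_one.mp h', hsq]
    · rw [show w = x' * z * c by rw [← h', mul_inv_cancel_left], mul_assoc _ c, ← mul_assoc c,
        (S.central (x' * z)).eq, mul_assoc _ c c, S.csq, mul_one, hsq]
  -- a 2-group over `W`
  set P := W.comap π
  have hPp : IsPGroup 2 P := by
    rintro ⟨y, hy⟩
    obtain ⟨k, hk⟩ := hW ⟨π y, hy⟩
    have hk' : π (y ^ (2 ^ k)) = 1 := by rw [map_pow]; exact congrArg Subtype.val hk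
    refine ⟨k + 1, Subtype.ext ?_⟩
    show y ^ (2 ^ (k + 1)) = 1
    rw [pow_succ, pow_mul]
    rcases S.ker _ hk' with h' | h' <;> rw [h', pow_two]
    · exact one_mul 1
    · exact S.csq
  obtain ⟨A, rfl⟩ := S.surj a
  obtain ⟨B, rfl⟩ := S.surj b
  obtain ⟨hcZ, hZP, hZc⟩ := S.inner_props I hPp
  set N : Subgroup P := (closure (D ∩ P)).subgroupOf P
  haveI : N.Normal := ⟨fun n hn g => by
    have := hZc _ (mem_subgroupOf.mp hn) g g.2
    rw [mem_subgroupOf, Subgroup.coe_mul, Subgroup.coe_mul, Subgroup.coe_inv, ← this.eq, mul_inv_cancel_right]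
    exact hn⟩
  have hcP : c ∈ P := by show π c ∈ W; rw [S.π_c I]; exact one_mem W
  set ρ := QuotientGroup.mk' N
  set ε := ρ ⟨c, hcP⟩
  have hε : ε ≠ 1 := fun h' => hcZ (mem_subgroupOf.mp ((QuotientGroup.eq_one_iff _).mp h'))
  have hsq : ∀ (w : L) (hw : w ∈ P), Near (π x) (π w) → ρ ⟨w, hw⟩ * ρ ⟨w, hw⟩ = ε := by
    intro w hw hn
    obtain ⟨e, he, hwe⟩ := near w hn
    rw [← map_mul]
    refine (QuotientGroup.eq.mpr ?_)
    rw [mem_subgroupOf]
    show (w * w)⁻¹ * c ∈ closure (D ∩ P)
    have hew : e = w * w * c := by rw [hwe, mul_assoc, S.csq, mul_one]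
    have heP : e ∈ P := hew ▸ mul_mem (mul_mem hw hw) hcP
    rw [hwe, mul_inv_rev, inv_eq_of_mul_eq_one_left (S.sq e he).1, inv_eq_of_mul_eq_one_left S.csq,
      mul_assoc, ← (S.central e).eq, ← mul_assoc, S.csq, one_mul]
    exact subset_closure ⟨he, heP⟩
  have hxP : x ∈ P := hxW
  have hAP : A ∈ P := ha
  have hBP : B ∈ P := hb
  set X := ρ ⟨x, hxP⟩
  set A' := ρ ⟨A, hAP⟩
  set B' := ρ ⟨B, hBP⟩
  have hεc : ∀ y, Commute ε y := by
    intro y
    obtain ⟨y, rfl⟩ := QuotientGroup.mk'_surjective N y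
    exact (show Commute (⟨c, hcP⟩ : P) y from Subtype.ext (S.central y).eq).map ρ
  have hεε : ε * ε = 1 := by rw [← map_mul]; exact (congrArg ρ (Subtype.ext S.csq)).trans (map_one ρ)
  -- two of them anticommute
  have anti : ∀ p q : P ⧸ N, p * p = ε → q * q = ε → p * q * (p * q) = ε → q * p = ε * (p * q) := by
    intro p q hp hq hpq
    calc q * p = p⁻¹ * (p * q * (p * q)) * q⁻¹ := by group
      _ = p⁻¹ * ε * q⁻¹ := by rw [hpq]
      _ = p * ε⁻¹ * ε * (q * ε⁻¹) := by
        rw [show p⁻¹ = p * (p * p)⁻¹ by group, show q⁻¹ = q * (q * q)⁻¹ by group, hp, hq]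
      _ = p * q * ε := by rw [inv_mul_cancel_right, inv_eq_of_mul_eq_one_left hεε, mul_assoc]
      _ = ε * (p * q) := (hεc _).symm.eq
  have hX := hsq x hxP ⟨1, 1, one_mul 1, Commute.one_left _, by simp⟩
  have hA := hsq A hAP na
  have hB := hsq B hBP nb
  have hXA : X * A' * (X * A') = ε := by
    rw [← map_mul]; exact hsq (x * A) (mul_mem hxP hAP) (by rw [map_mul]; exact nxa)
  have hXB : X * B' * (X * B') = ε := by
    rw [← map_mul]; exact hsq (x * B) (mul_mem hxP hBP) (by rw [map_mul]; exact nxb)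
  have hAB : A' * B' * (A' * B') = ε := by
    rw [← map_mul]; exact hsq (A * B) (mul_mem hAP hBP) (by rw [map_mul]; exact nab)
  have hXAB : X * A' * B' * (X * A' * B') = ε := by
    rw [← map_mul, ← map_mul]
    exact hsq (x * A * B) (mul_mem (mul_mem hxP hAP) hBP) (by rw [map_mul, map_mul]; exact nxab)
  have h1 := anti X B' hX hB hXB
  have h2 := anti A' B' hA hB hAB
  have h3 : B' * (X * A') = X * A' * B' := by
    rw [← mul_assoc, h1, mul_assoc, mul_assoc, h2, ← mul_assoc X ε, ← (hεc X).eq, mul_assoc ε X, ← mul_assoc ε ε,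
      hεε, one_mul, mul_assoc]
  have h5 : X * A' * B' * (X * A' * B') = ε * ε := by
    rw [mul_assoc (X * A') B', ← mul_assoc B', h3, mul_assoc (X * A') B', hB, ← mul_assoc (X * A'), hXA]
  exact hε (by rw [← hεε, ← h5, hXAB])

/-- There is no such group. -/
theorem contradiction : False := by
  haveI : Fact (Nat.Prime 2) := ⟨Nat.prime_two⟩
  obtain ⟨P⟩ : Nonempty (Sylow 2 L) := inferInstance
  obtain ⟨hcZ, hZP, hZc⟩ := S.inner_props I P.isPGroup'
  have hcP : c ∈ (P : Subgroup L) := by
    haveI : (zpowers c).Normal := ⟨fun n hn g => by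
      obtain ⟨i, rfl⟩ := hn
      rw [← ((S.central g).zpow_left i).eq, mul_inv_cancel_right]
      exact ⟨i, rfl⟩⟩
    have h2 : IsPGroup 2 (zpowers c) := IsPGroup.of_card (n := 1) (by
      rw [Nat.card_zpowers, orderOf_eq_prime (by rw [pow_two, S.csq]) S.ne, pow_one])
    have hp := P.isPGroup'.to_sup_of_normal_right h2
    exact (P.3 hp le_sup_left) ▸ mem_sup_right (mem_zpowers c)
  -- squares lie in the closure of the members
  have hsquares : ∀ y ∈ (P : Subgroup L), y * y ∈ closure (D ∩ P) := by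
    intro y hy
    by_cases h : π y * π y = 1
    · rw [S.sq_eq_one_of_image I h]; exact one_mem _
    obtain ⟨k, hk⟩ := P.isPGroup' ⟨y, hy⟩
    exact subset_closure ⟨S.sq_mem I h4 ⟨k, congrArg Subtype.val hk⟩ h, mul_mem hy hy⟩
  -- a complement of `c` in the Sylow subgroup
  classical
  obtain ⟨A, ⟨hA1, hA2, hA3⟩, hAmax⟩ := (Set.toFinite {A : Subgroup L | closure (D ∩ P) ≤ A ∧ A ≤ P ∧ c ∉ A}).exists_maximal
    ⟨closure (D ∩ P), le_rfl, hZP, hcZ⟩
  have hcomm : ∀ p ∈ (P : Subgroup L), ∀ q ∈ (P : Subgroup L), p * q * p⁻¹ * q⁻¹ ∈ A := by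
    intro p hp q hq
    rw [show p * q * p⁻¹ * q⁻¹ = p * p * (p⁻¹ * q * (p⁻¹ * q)) * (q⁻¹ * q⁻¹) by group]
    exact hA1 (mul_mem (mul_mem (hsquares p hp) (hsquares _ (mul_mem (inv_mem hp) hq)))
      (hsquares _ (inv_mem hq)))
  have hnorm : ∀ p ∈ (P : Subgroup L), ∀ a ∈ A, p * a * p⁻¹ ∈ A := fun p hp a ha => by
    rw [show p * a * p⁻¹ = p * a * p⁻¹ * a⁻¹ * a by group]
    exact mul_mem (hcomm p hp a (hA2 ha)) ha
  have hindex : ∀ y ∈ (P : Subgroup L), y ∈ A ∨ y * c ∈ A := by
    intro y hy
    by_contra hcon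
    push Not at hcon
    have hle : zpowers y ≤ normalizer (A : Set L) := by
      rw [zpowers_le, mem_normalizer_iff]
      refine fun n => ⟨fun hn => hnorm y hy n hn, fun hn => ?_⟩
      have := hnorm y⁻¹ (inv_mem hy) _ hn
      simpa [mul_assoc] using this
    have hsup := hAmax (show A ⊔ zpowers y ∈ {B : Subgroup L | closure (D ∩ P) ≤ B ∧ B ≤ P ∧ c ∉ B} from
      ⟨hA1.trans le_sup_left, sup_le hA2 (zpowers_le.mpr hy), fun hc => ?_⟩) le_sup_left
    · exact hcon.1 (hsup (mem_sup_right (mem_zpowers y)))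
    · have hc' : c ∈ ((zpowers y ⊔ A : Subgroup L) : Set L) := by rw [sup_comm]; exact hc
      rw [coe_mul_of_left_le_normalizer_right _ _ hle] at hc'
      obtain ⟨_, ⟨m, rfl⟩, a, ha, hya⟩ := hc'
      have hy2 : y * y ∈ A := hA1 (hsquares y hy)
      obtain ⟨k, rfl | rfl⟩ := Int.even_or_odd' m
      · refine hA3 (hya ▸ mul_mem ?_ ha)
        show y ^ (2 * k) ∈ A
        rw [zpow_mul, zpow_two]; exact zpow_mem hy2 k
      · refine hcon.2 ?_
        rw [← hya, show y * (y ^ (2 * k + 1) * a) = y * y * (y * y) ^ k * a by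
          rw [zpow_add, zpow_mul, zpow_two, zpow_one, ((Commute.refl y).mul_left (Commute.refl y)).zpow_left k |>.eq]
          simp [mul_assoc]]
        exact mul_mem (mul_mem hy2 (zpow_mem hy2 k)) ha
  -- Gaschütz
  set K := zpowers c
  have hSet : H24.Gaschuetz.Setup K (P : Subgroup L) A := by
    refine ⟨⟨fun n hn g => ?_⟩, inferInstance, zpowers_le.mpr hcP, hA2, ?_, ?_⟩
    · obtain ⟨i, rfl⟩ := hn
      rw [← ((S.central g).zpow_left i).eq, mul_inv_cancel_right]
      exact ⟨i, rfl⟩
    · rw [eq_bot_iff]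
      rintro w ⟨hwA, i, rfl⟩
      obtain ⟨j, rfl | rfl⟩ := Int.even_or_odd' i
      · show c ^ (2 * j) ∈ (⊥ : Subgroup L)
        rw [zpow_mul, zpow_two, S.csq, one_zpow]; exact one_mem _
      · have hwA' : c ^ (2 * j + 1) ∈ A := hwA
        rw [zpow_add, zpow_mul, zpow_two, S.csq, one_zpow, one_mul, zpow_one] at hwA'
        exact absurd hwA' hA3
    · refine le_antisymm (sup_le (zpowers_le.mpr hcP) hA2) fun y hy => ?_
      rcases hindex y hy with h | h
      · exact mem_sup_right h
      · rw [show y = c * (y * c) by rw [← mul_assoc, (S.central y).eq, mul_assoc, S.csq, mul_one]]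
        exact mul_mem (mem_sup_left (mem_zpowers c)) (mem_sup_right h)
  obtain ⟨H, hH⟩ := H24.Gaschuetz.exists_complement hSet (by
    rw [Nat.card_zpowers, orderOf_eq_prime (by rw [pow_two, S.csq]) S.ne]
    exact (Nat.prime_two.coprime_iff_not_dvd).mpr P.not_dvd_index)
  have hidx : H.index = 2 := by
    have h := hH.card_mul
    rw [Nat.card_zpowers, orderOf_eq_prime (by rw [pow_two, S.csq]) S.ne, ← H.index_mul_card] at h
    exact (Nat.eq_of_mul_eq_mul_right Nat.card_pos h).symm
  haveI := normal_of_index_eq_two hidx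
  have hle : commutator L ≤ H := by
    rw [_root_.commutator_def, commutator_le]
    intro p _ q _
    rw [← QuotientGroup.eq_one_iff]
    haveI hcyc : IsCyclic (L ⧸ H) := isCyclic_of_prime_card (p := 2) (by rw [← index_eq_card, hidx])
    letI := IsCyclic.commGroup (α := L ⧸ H)
    show (QuotientGroup.mk' H) ⁅p, q⁆ = 1
    rw [map_commutatorElement, commutatorElement_eq_one_iff_mul_comm, mul_comm]
  rw [S.perfect] at hle
  rw [top_le_iff.mp hle, index_top] at hidx
  omega

end Setup

end Cfsg.Agent.H3.RootInv.CoverFree
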