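import Cfsg.Agent.H3.RootInv.Inner
import Cfsg.Agent.H73.Asch.Line

/-!
`GoodHyp` from the strong embedding criterion: a faithful configuration gives the hypothesis `Crit` on the cosets
of a block stabiliser, by induction on the group.
-/

set_option autoImplicit false
set_option linter.style.haveILetI false

namespace Cfsg.Agent.H3.RootInv

open Subgroup MulAction Cfsg.Agent.H87
open Cfsg.Agent.H14.Asch (Crit lineGroup)
open Cfsg.Agent.H73.Bender (SE)

universe u

/-- The criterion. -/
def CoreHyp : Prop :=
  ∀ (G : Type u) [Group G] [Finite G] (Ω : Type u) [MulAction G Ω] [Finite Ω] (D : Set G),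
    Crit G Ω D → H73.Asch.NoBad Ω D

/-- An involution centralising members of two blocks is not generated by the members centralising it. -/
def InnerHyp : Prop :=
  ∀ (G : Type u) [Group G] [Finite G] (D : Set G) (R : G → G → Prop), Faithful D R → GoodBelow.{u} (Nat.card G) →
    ∀ x : G, TwoComp D R x → x ∉ closure {d | d ∈ D ∧ Commute x d}

variable {G : Type u} [Group G] {D : Set G} {R : G → G → Prop}

/-- The point of a member. -/
theorem BlockRel.smul_mk_eq_iff (E : BlockRel D R) {d : G} (g h : G) :
    h • (QuotientGroup.mk g : G ⧸ E.stab d) = QuotientGroup.mk g ↔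
      R (g * d * g⁻¹) (h * (g * d * g⁻¹) * h⁻¹) := by
  rw [show h • (QuotientGroup.mk g : G ⧸ E.stab d) = QuotientGroup.mk (h * g) from rfl, eq_comm, QuotientGroup.eq,
    BlockRel.mem_stab, ← E.conj_iff g]
  simp [mul_assoc]

variable [Finite G]

theorem Faithful.mk_point (F : Faithful D R) {d : G} (hd : d ∈ D) (g : G) {e : G} (he : e ∈ D) :
    e • (QuotientGroup.mk g : G ⧸ F.stab d) = QuotientGroup.mk g ↔ R (g * d * g⁻¹) e := by
  rw [F.smul_mk_eq_iff g e]
  exact ⟨fun h => F.rel_of_mem_stab he (F.root.conj_mem d hd g) h, fun h => F.mem_stab_self h⟩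

theorem Faithful.odd_card_points (F : Faithful D R) {d : G} (hd : d ∈ D) : Odd (Nat.card (G ⧸ F.stab d)) := by
  haveI : Fact (Nat.Prime 2) := ⟨Nat.prime_two⟩
  obtain ⟨d0, hd0, S, hS⟩ := F.exists_central
  obtain ⟨g, rfl⟩ := F.exists_conj hd hd0
  rw [← Nat.not_even_iff_odd, even_iff_two_dvd]
  intro h2
  refine S.not_dvd_index (h2.trans ?_)
  have hle : (S : Subgroup G) ≤ F.stab (g * d * g⁻¹) := fun x hx => by
    rw [BlockRel.mem_stab, mem_centralizer_singleton_iff.mp (hS hx), mul_inv_cancel_right]
    exact F.refl _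
  have hmap : F.stab (g * d * g⁻¹) = (F.stab d).map (MulAut.conj g).toMonoidHom := by
    ext y
    constructor
    · intro hy
      refine ⟨g⁻¹ * y * g, ?_, by simp [mul_assoc]⟩
      have := F.conj g⁻¹ (show R _ _ from hy)
      simpa [BlockRel.mem_stab, mul_assoc] using this
    · rintro ⟨z, hz, rfl⟩
      have := F.conj g (show R _ _ from hz)
      simpa [BlockRel.mem_stab, mul_assoc] using this
  rw [← Subgroup.index_eq_card, ← Subgroup.index_map_equiv (F.stab d) (MulAut.conj g)]
  change ((F.stab d).map (MulAut.conj g).toMonoidHom).index ∣ _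
  rw [← hmap]
  exact index_dvd_of_le hle

theorem Faithful.crit (F : Faithful D R) (hInner : InnerHyp.{u}) (ih : GoodBelow.{u} (Nat.card G)) {d : G}
    (hd : d ∈ D) : Crit G (G ⧸ F.stab d) D := by
  haveI : Fact (Nat.Prime 2) := ⟨Nat.prime_two⟩
  -- a member for a fixed point of an involution
  have hmem : ∀ (t : G) (g : G), t * t = 1 → t • (QuotientGroup.mk g : G ⧸ F.stab d) = QuotientGroup.mk g →
      ∃ b ∈ D, R (g * d * g⁻¹) b ∧ Commute t b := fun t g ht hfix =>
    F.exists_commute_of_fix ht (F.root.conj_mem d hd g) ((F.smul_mk_eq_iff g t).mp hfix)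
  refine
    { conj_mem := fun he g => F.root.conj_mem _ he g
      isConj := fun he he' => F.exists_conj he he'
      nonempty := F.nonempty
      inv := fun he => F.root.orderOf_eq _ he
      unique := ?_
      comm := ?_
      trans := inferInstance
      faithful := ?_
      exists_ne := ?_
      line := ?_ }
  · intro e he
    obtain ⟨g, rfl⟩ := F.exists_conj hd he
    refine ⟨QuotientGroup.mk g, (F.mk_point hd g he).mpr (F.refl _), fun p hp => ?_⟩
    obtain ⟨g', rfl⟩ := QuotientGroup.mk_surjective p
    have h1 := (F.mk_point hd g' he).mp hp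
    rw [QuotientGroup.eq, BlockRel.mem_stab, ← F.conj_iff g']
    simpa [mul_assoc] using h1
  · intro t p ht hp
    obtain ⟨g, rfl⟩ := QuotientGroup.mk_surjective p
    obtain ⟨b, hb, hgb, htb⟩ := hmem t g (by rw [← pow_two, ← ht, pow_orderOf_eq_one]) hp
    exact ⟨b, hb, (F.mk_point hd g hb).mpr hgb, htb⟩
  · refine ⟨fun {g h} hgh => ?_⟩
    have h1 : ∀ p : G ⧸ F.stab d, (h⁻¹ * g) • p = p := fun p => by rw [mul_smul, hgh p, inv_smul_smul]
    have := F.faithful (h⁻¹ * g) fun e he => by
      obtain ⟨k, rfl⟩ := F.exists_conj hd he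
      exact (F.smul_mk_eq_iff k (h⁻¹ * g)).mp (h1 _)
    exact (inv_mul_eq_one.mp this).symm
  · obtain ⟨e, he, hne⟩ := F.disc d hd
    obtain ⟨g, rfl⟩ := F.exists_conj hd he
    refine ⟨QuotientGroup.mk 1, QuotientGroup.mk g, fun h => hne ?_⟩
    rw [QuotientGroup.eq, inv_one, one_mul, BlockRel.mem_stab] at h
    exact h
  · intro x p q hx hpq hp hq
    have hxx : x * x = 1 := by rw [← pow_two, ← hx, pow_orderOf_eq_one]
    have hx1 : x ≠ 1 := fun h => by rw [h, orderOf_one] at hx; omega
    obtain ⟨g, rfl⟩ := QuotientGroup.mk_surjective p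
    obtain ⟨g', rfl⟩ := QuotientGroup.mk_surjective q
    obtain ⟨a, ha, hga, hxa⟩ := hmem x g hxx hp
    obtain ⟨b, hb, hgb, hxb⟩ := hmem x g' hxx hq
    have hab : ¬ R a b := fun h => hpq (by
      rw [QuotientGroup.eq, BlockRel.mem_stab, ← F.conj_iff g]
      simpa [mul_assoc] using F.trans hga (F.trans h (F.symm hgb)))
    have hTC : TwoComp D R x := ⟨hxx, hx1, a, ha, b, hb, hxa, hxb, hab⟩
    have hLeq : lineGroup D x = closure {e | e ∈ D ∧ Commute x e} := by
      rw [lineGroup]
      congr 1
      ext e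
      exact ⟨fun h => ⟨h.1, (mem_centralizer_singleton_iff.mp h.2).symm⟩,
        fun h => ⟨h.1, mem_centralizer_singleton_iff.mpr h.2.symm.eq⟩⟩
    have hLx : ∀ k ∈ lineGroup D x, Commute k x := by
      intro k hk
      rw [hLeq] at hk
      induction hk using closure_induction with
      | mem y hy => exact hy.2.symm
      | one => exact Commute.one_left x
      | mul y z _ _ hy hz => exact hy.mul_left hz
      | inv y _ hy => exact hy.inv_left
    refine
      { smul_mem := fun {k} hk p hp => ?_
        trans := fun {p q} hp hq => ?_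
        exists_fix := fun {t} ht ht2 => ?_
        fix_unique := fun {t} ht ht2 {p q} hp hq htp htq => ?_
        exists_ne := ⟨_, hp, _, hq, hpq⟩
        exists_inv := ⟨a, H14.Asch.mem_lineGroup ha hxa.symm, F.root.orderOf_eq a ha⟩ }
    · exact H14.Asch.smul_fixed_of_commute (hLx k hk) hp
    · obtain ⟨g1, rfl⟩ := QuotientGroup.mk_surjective p
      obtain ⟨g2, rfl⟩ := QuotientGroup.mk_surjective q
      obtain ⟨a1, ha1, hr1, hx1⟩ := hmem x g1 hxx hp
      obtain ⟨a2, ha2, hr2, hx2⟩ := hmem x g2 hxx hq
      by_cases h : R a1 a2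
      · refine ⟨1, one_mem _, ?_⟩
        rw [one_smul, QuotientGroup.eq, BlockRel.mem_stab, ← F.conj_iff g1]
        simpa [mul_assoc] using F.trans hr1 (F.trans h (F.symm hr2))
      · obtain ⟨f, hf, hfa, hfc, -⟩ := exists_middle F.root (F.odd_of_not ha1 ha2 h)
        refine ⟨f, H14.Asch.mem_lineGroup hf (hfc x hx1 hx2).symm, ?_⟩
        show (QuotientGroup.mk (f * g1) : G ⧸ F.stab d) = QuotientGroup.mk g2
        rw [QuotientGroup.eq, BlockRel.mem_stab, ← F.conj_iff (f * g1)]
        have h1 := F.conj f hr1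
        rw [hfa] at h1
        simpa [mul_assoc] using F.trans h1 (F.symm hr2)
    · obtain ⟨r, hr⟩ : ∃ r : G ⧸ F.stab d, ∀ k ∈ closure ({x, t} : Set G), k • r = r := by
        have htx : Commute t x := hLx t ht
        have hP : IsPGroup 2 (closure ({x, t} : Set G)) := by
          rintro ⟨k, hk⟩
          refine ⟨1, Subtype.ext ?_⟩
          show k ^ (2 ^ 1) = 1
          have key : ∀ y ∈ closure ({x, t} : Set G), y * y = 1 ∧ Commute y x ∧ Commute y t := by
            intro y hy
            induction hy using closure_induction with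
            | mem z hz =>
              rcases hz with rfl | rfl
              · exact ⟨hxx, Commute.refl _, htx.symm⟩
              · exact ⟨by rw [← pow_two, ← ht2, pow_orderOf_eq_one], htx, Commute.refl _⟩
            | one => exact ⟨one_mul 1, Commute.one_left x, Commute.one_left t⟩
            | mul y z _ hz' hy hz =>
              have hyz : Commute y z := by
                clear hz
                induction hz' using closure_induction with
                | mem w hw =>
                  rcases hw with rfl | rfl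
                  · exact hy.2.1
                  · exact hy.2.2
                | one => exact Commute.one_right y
                | mul w v _ _ hw hv => exact hw.mul_right hv
                | inv w _ hw => exact hw.inv_right
              exact ⟨by rw [mul_assoc, ← mul_assoc z, ← hyz.eq, mul_assoc y, hz.1, mul_one, hy.1],
                hy.2.1.mul_left hz.2.1, hy.2.2.mul_left hz.2.2⟩
            | inv y _ hy => exact ⟨by rw [← mul_inv_rev, hy.1, inv_one], hy.2.1.inv_left, hy.2.2.inv_left⟩
          rw [pow_one, pow_two]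
          exact (key k hk).1
        obtain ⟨r, hr⟩ := hP.nonempty_fixed_point_of_prime_not_dvd_card (G ⧸ F.stab d)
          (fun h => Nat.not_even_iff_odd.mpr (F.odd_card_points hd) (even_iff_two_dvd.mpr h))
        exact ⟨r, fun k hk => hr ⟨k, hk⟩⟩
      exact ⟨r, hr x (subset_closure (Set.mem_insert _ _)),
        hr t (subset_closure (Set.mem_insert_of_mem _ rfl))⟩
    · by_contra hne
      obtain ⟨g1, rfl⟩ := QuotientGroup.mk_surjective p
      obtain ⟨g2, rfl⟩ := QuotientGroup.mk_surjective q
      obtain ⟨a1, ha1, hr1, hx1⟩ := hmem x g1 hxx hp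
      obtain ⟨a2, ha2, hr2, hx2⟩ := hmem x g2 hxx hq
      have h12 : ¬ R a1 a2 := fun h => hne (by
        rw [QuotientGroup.eq, BlockRel.mem_stab, ← F.conj_iff g1]
        simpa [mul_assoc] using F.trans hr1 (F.trans h (F.symm hr2)))
      have hta : ∀ (g0 a0 : G), R (g0 * d * g0⁻¹) a0 →
          t • (QuotientGroup.mk g0 : G ⧸ F.stab d) = QuotientGroup.mk g0 → R a0 (t * a0 * t⁻¹) :=
        fun g0 a0 h0 hfix =>
          F.trans (F.symm h0) (F.trans ((F.smul_mk_eq_iff g0 t).mp hfix) (F.conj t h0))
      rw [hLeq] at ht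
      have hcent := F.centralizes_of_mem_line ih hTC ht2 ht ha1 hx1 ha2 hx2 h12 (hta g1 a1 hr1 htp)
        (hta g2 a2 hr2 htq)
      refine hInner G D R F ih t ⟨by rw [← pow_two, ← ht2, pow_orderOf_eq_one],
        fun h => by rw [h, orderOf_one] at ht2; omega, a1, ha1, a2, ha2, hcent a1 ha1 hx1, hcent a2 ha2 hx2, h12⟩ ?_
      exact closure_mono (fun e (he : e ∈ D ∧ Commute x e) => (⟨he.1, hcent e he.1 he.2⟩ : e ∈ D ∧ Commute t e)) ht

/-- `GoodHyp` from the criterion. -/
theorem goodHyp_of (hCore : CoreHyp.{u}) (hInner : InnerHyp.{u}) : GoodHyp.{u} := by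
  suffices H : ∀ n, GoodBelow.{u} n from fun G _ _ D R F => H _ G D R (Nat.lt_succ_self _) F
  intro n
  induction n with
  | zero => intro H _ _ E S h; exact absurd h (Nat.not_lt_zero _)
  | succ n ih =>
    intro G _ _ D R hn F
    intro x hx hx1 a ha b hb hxa hxb
    have ih' : GoodBelow.{u} (Nat.card G) := fun H _ _ E S h => ih H E S (lt_of_lt_of_le h (Nat.lt_succ_iff.mp hn))
    obtain ⟨d, hd⟩ := F.nonempty
    obtain ⟨g, rfl⟩ := F.exists_conj hd ha
    obtain ⟨g', rfl⟩ := F.exists_conj hd hb
    have h := hCore G (G ⧸ F.stab d) D (F.crit hInner ih' hd) x (F.root.generates ▸ mem_top x)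
      (orderOf_eq_prime (by rw [pow_two, hx]) hx1) (QuotientGroup.mk g) (QuotientGroup.mk g')
      ((F.smul_mk_eq_iff g x).mpr hxa) ((F.smul_mk_eq_iff g' x).mpr hxb)
    rw [QuotientGroup.eq, BlockRel.mem_stab, ← F.conj_iff g] at h
    simpa [mul_assoc] using h

end Cfsg.Agent.H3.RootInv
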