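import Cfsg.Agent.H3.RootInv.Quot
import Cfsg.Agent.H76.PostBender.Main

/-!
S5044 reduced to "no involution fixes two components" and Bender's theorem.
-/

set_option autoImplicit false
set_option linter.style.haveILetI false

namespace Cfsg.Agent.H3.RootInv

open Subgroup Cfsg.Agent.H87

universe u

/-- No involution fixes two blocks. -/
def Good {G : Type*} [Group G] (D : Set G) (R : G → G → Prop) : Prop :=
  ∀ x : G, x * x = 1 → x ≠ 1 → ∀ a ∈ D, ∀ b ∈ D, R a (x * a * x⁻¹) → R b (x * b * x⁻¹) → R a b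

/-- The bad involution criterion, in the form needed here. -/
def GoodHyp : Prop :=
  ∀ (G : Type u) [Group G] [Finite G] (D : Set G) (R : G → G → Prop), Faithful D R → Good D R

variable {G : Type u} [Group G] [Finite G] {D : Set G} {R : G → G → Prop}

theorem Faithful.isSE (F : Faithful D R) (hgood : Good D R) {d : G} (hd : d ∈ D) :
    Cfsg.IsStronglyEmbedded (F.stab d) := by
  refine ⟨?_, ?_, ?_⟩
  · intro h
    obtain ⟨e, he, hne⟩ := F.disc d hd
    exact hne (F.rel_of_mem_stab he hd (h ▸ mem_top e))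
  · rw [even_iff_two_dvd]
    have := orderOf_dvd_natCard (⟨d, F.mem_stab_self (F.refl d)⟩ : F.stab d)
    rwa [Subgroup.orderOf_mk, F.root.orderOf_eq d hd] at this
  · intro g hg
    by_contra hodd
    haveI : Fact (Nat.Prime 2) := ⟨Nat.prime_two⟩
    obtain ⟨w, hw⟩ := exists_prime_orderOf_dvd_card'
      (G := ↥(F.stab d ⊓ (F.stab d).map (MulAut.conj g).toMonoidHom)) 2
      (even_iff_two_dvd.mp (Nat.not_odd_iff_even.mp hodd))
    rw [← Subgroup.orderOf_coe] at hw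
    obtain ⟨h1, y, hy, hyw⟩ := w.2
    generalize (w : G) = x at hw h1 hyw
    subst hyw
    set x := (MulAut.conj g).toMonoidHom y with hx
    have hxx : x * x = 1 := by
      have := pow_orderOf_eq_one x
      rwa [hw, pow_two] at this
    have hx1 : x ≠ 1 := fun h => by rw [h, orderOf_one] at hw; omega
    refine hg (hgood x hxx hx1 d hd (g * d * g⁻¹) (F.root.conj_mem d hd g) h1 ?_)
    have := F.conj g (show R d (y * d * y⁻¹) from hy)
    simp only [x, MulEquiv.coe_toMonoidHom, MulAut.conj_apply]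
    rwa [show g * y * g⁻¹ * (g * d * g⁻¹) * (g * y * g⁻¹)⁻¹ = g * (y * d * y⁻¹) * g⁻¹ by group]

theorem Faithful.isBenderGroup (F : Faithful D R) (hgood : Good D R) (hBend : H76.PostBender.BenderHyp.{u})
    (hcomm : ∃ a ∈ D, ∃ b ∈ D, a ≠ b ∧ Commute a b) : H76.PostBender.IsBenderGroup G := by
  obtain ⟨d, hd, b, hb, hne, hc⟩ := hcomm
  obtain ⟨hO, hB, -, -⟩ := H76.PostBender.quotient_structure hBend (F.isSE hgood hd)
    (F.root.orderOf_eq d hd) (F.root.orderOf_eq b hb) hc hne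
  have hbot : Cfsg.oddCore G = ⊥ := by
    rw [eq_bot_iff]
    intro k hk
    rw [mem_bot]
    refine F.faithful k fun e he => ?_
    obtain ⟨g, rfl⟩ := F.exists_conj hd he
    have h := hO ((inferInstance : (Cfsg.oddCore G).Normal).conj_mem k hk g⁻¹)
    have := F.conj g (show R d _ from h)
    rwa [show g * (g⁻¹ * k * g⁻¹⁻¹ * d * (g⁻¹ * k * g⁻¹⁻¹)⁻¹) * g⁻¹ = k * (g * d * g⁻¹) * k⁻¹ by group] at this
  set π := QuotientGroup.mk' (Cfsg.oddCore G) with hπ
  have hinj : Function.Injective π := by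
    rw [← MonoidHom.ker_eq_bot_iff, hπ, QuotientGroup.ker_mk', hbot]
  have htop : H76.PostBender.involClosure (G ⧸ Cfsg.oddCore G) = ⊤ := by
    rw [eq_top_iff, ← map_top_of_surjective π (QuotientGroup.mk'_surjective _), ← F.root.generates,
      MonoidHom.map_closure]
    refine closure_mono ?_
    rintro _ ⟨e, he, rfl⟩
    show orderOf (π e) = 2
    rw [orderOf_injective π hinj, F.root.orderOf_eq e he]
  let e1 : G ≃* ↥(H76.PostBender.involClosure (G ⧸ Cfsg.oddCore G)) :=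
    ((MulEquiv.ofBijective π ⟨hinj, QuotientGroup.mk'_surjective _⟩).trans
      Subgroup.topEquiv.symm).trans (MulEquiv.subgroupCongr htop.symm)
  rcases hB with ⟨K, i1, i2, hch, h4, ⟨e⟩⟩ | h | ⟨K, i1, i2, q, hK, hq, h4, ⟨e⟩⟩
  · exact Or.inl ⟨K, i1, i2, hch, h4, ⟨e1.trans e⟩⟩
  · refine Or.inr (Or.inl ?_)
    obtain ⟨K, i1, i2, σ, h1, h2, ⟨e⟩⟩ := h
    exact ⟨K, i1, i2, σ, h1, h2, ⟨e1.trans e⟩⟩
  · exact Or.inr (Or.inr ⟨K, i1, i2, q, hK, hq, h4, ⟨e1.trans e⟩⟩)

/-- S5044, given the criterion and Bender's theorem. -/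
theorem dichotomy (hGood : GoodHyp.{u}) (hBend : H76.PostBender.BenderHyp.{u})
    (hD : Cfsg.IsRootInvolutionSet D) (hDD : (D ∩ Cfsg.commutingProducts D).Nonempty) :
    Cfsg.IsConnectedSet (Cfsg.CommAdj D) D ∨
    (∃ (F : Type) (_ : Field F) (_ : Fintype F), CharP F 2 ∧ 4 ≤ Fintype.card F ∧
      Nonempty (G ⧸ Cfsg.twoZCore G ≃* Matrix.ProjectiveSpecialLinearGroup (Fin 2) F)) ∨
    Cfsg.Lie.IsoSuzuki (G ⧸ Cfsg.twoZCore G) ∨
    (∃ (F : Type) (_ : Field F) (_ : Fintype F) (q : ℕ), CharP F 2 ∧ Fintype.card F = q ^ 2 ∧ 4 ≤ q ∧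
      Nonempty (G ⧸ Cfsg.twoZCore G ≃* Cfsg.PSU 3 F q)) := by
  by_cases hc : Cfsg.IsConnectedSet (Cfsg.CommAdj D) D
  · exact Or.inl hc
  right
  have C := config_of_not_connected hD hc
  have hp : ∃ a ∈ D, ∃ b ∈ D, a ≠ b ∧ Commute a b ∧ a * b ∈ D := by
    obtain ⟨x, hxD, a, ha, b, hb, hab, hne, rfl⟩ := hDD
    refine ⟨a, ha, b, hb, ?_, hab, hxD⟩
    rintro rfl
    exact hne (Inv.sq_eq hD ha)
  have hN := (C.ker_eq_twoZCore (C.hasPartners hp)).symm
  have F := C.quotient_faithful (Cfsg.twoZCore G) hN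
  obtain ⟨a, ha, b, hb, hne, hab, -⟩ := C.image_partner (Cfsg.twoZCore G) hN hp
  rcases F.isBenderGroup (hGood _ _ _ F) hBend ⟨a, ha, b, hb, hne, hab⟩ with
    h | h | ⟨K, i1, i2, q, hK, hq, h4, he⟩
  · exact Or.inl h
  · exact Or.inr (Or.inl h)
  · exact Or.inr (Or.inr ⟨K, i1, i2, q, H76.PostBender.charP_two_of_card hK hq, hK, h4, he⟩)

end Cfsg.Agent.H3.RootInv
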