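import Cfsg.Agent.H3.RootInv.CoverFree
import Cfsg.Agent.H76.PostBender.Coatom
import Cfsg.Agent.H72.PSUThree.Roots
import Cfsg.Agent.Suzuki.Normalizer

/-!
The groups of Bender's list satisfy `FourType`.
-/

set_option autoImplicit false
set_option linter.style.haveILetI false
set_option linter.unusedSectionVars false

namespace Cfsg.Agent.H3.RootInv.CoverFree

open Subgroup

theorem Near.map {Q R : Type*} [Group Q] [Group R] (φ : Q →* R) {x y : Q} (h : Near x y) : Near (φ x) (φ y) := by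
  obtain ⟨g, z, hz, hzc, rfl⟩ := h
  exact ⟨φ g, φ z, by rw [← map_mul, hz, map_one], by simpa using hzc.map φ, by simp⟩

/-- `FourType` passes to quotients: every element of 2-power order lifts to one. -/
theorem FourType.of_surjective {Q R : Type*} [Group Q] [Finite Q] [Group R] {φ : Q →* R}
    (hφ : Function.Surjective φ) (h : FourType Q) : FourType R := by
  haveI : Fact (Nat.Prime 2) := ⟨Nat.prime_two⟩
  intro x hx hx2
  obtain ⟨k, hk⟩ := hx
  have hp : IsPGroup 2 (zpowers x) := by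
    rintro ⟨_, m, rfl⟩
    refine ⟨k, Subtype.ext ?_⟩
    show (x ^ m) ^ (2 ^ k) = 1
    rw [← zpow_natCast, ← zpow_mul, mul_comm, zpow_mul, zpow_natCast, hk, one_zpow]
  obtain ⟨S, hS⟩ := hp.exists_le_sylow
  obtain ⟨T, hT⟩ := Sylow.mapSurjective_surjective hφ 2 S
  obtain ⟨y, hy, rfl⟩ : x ∈ (T : Subgroup Q).map φ := by
    rw [← Sylow.coe_mapSurjective (hf := hφ), hT]
    exact hS (mem_zpowers x)
  obtain ⟨j, hj⟩ := T.isPGroup' ⟨y, hy⟩
  obtain ⟨h4, W, hW, a, ha, b, hb, hyW, n1, n2, n3, n4, n5, n6⟩ :=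
    h y ⟨j, congrArg Subtype.val hj⟩ fun e => hx2 (by rw [← map_mul, e, map_one])
  refine ⟨by rw [← map_mul, ← map_mul, h4, map_one], W.map φ, hW.map φ, φ a, mem_map_of_mem φ ha, φ b,
    mem_map_of_mem φ hb, mem_map_of_mem φ hyW, n1.map φ, n2.map φ, ?_, ?_, ?_, ?_⟩
  · simpa using n3.map φ
  · simpa using n4.map φ
  · simpa using n5.map φ
  · simpa using n6.map φ

/-- `SL₂` in characteristic two has no elements of order four. -/
theorem fourType_slTwo {F : Type*} [Field F] [CharP F 2] : FourType (Matrix.SpecialLinearGroup (Fin 2) F) := by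
  intro x hx hx2
  exfalso
  obtain ⟨k, hk⟩ := hx
  refine hx2 (Subtype.ext ?_)
  set M : Matrix (Fin 2) (Fin 2) F := (x : Matrix (Fin 2) (Fin 2) F) with hM
  have hMk : M ^ (2 ^ k) = 1 := congrArg Subtype.val hk
  haveI : Fact (Nat.Prime 2) := ⟨Nat.prime_two⟩
  haveI : CharP (Matrix (Fin 2) (Fin 2) F) 2 := inferInstance
  have hn : IsNilpotent (M - 1) := ⟨2 ^ k, by
    rw [sub_pow_char_pow_of_commute 2 k (Commute.one_right M), hMk, one_pow, sub_self]⟩
  set N := M - 1 with hN
  have ht : N 0 0 + N 1 1 = 0 := by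
    have := (Matrix.isNilpotent_trace_of_isNilpotent hn).eq_zero
    rwa [Matrix.trace_fin_two] at this
  have hd : N 0 0 * N 1 1 - N 0 1 * N 1 0 = 0 := by
    obtain ⟨j, hj⟩ := hn
    have h0 : N.det ^ (j + 1) = 0 := by rw [← Matrix.det_pow, pow_succ, hj, zero_mul, Matrix.det_zero]
    rw [← Matrix.det_fin_two]
    exact eq_zero_of_pow_eq_zero h0
  have h2 : N * N = 0 := by
    ext i j
    fin_cases i <;> fin_cases j <;> simp [Matrix.mul_apply, Fin.sum_univ_two]
    · linear_combination (N 0 0) * ht - hd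
    · linear_combination (N 0 1) * ht
    · linear_combination (N 1 0) * ht
    · linear_combination (N 1 1) * ht - hd
  show M * M = 1
  have hM1 : M = N + 1 := (sub_add_cancel M 1).symm
  have htwo : N + N = 0 := by ext i j; exact CharTwo.add_self_eq_zero _
  rw [hM1, add_mul, mul_add, mul_add, h2, mul_one, one_mul, one_mul, zero_add, ← add_assoc, htwo, zero_add]

section Sz

open Suzuki

variable {F : Type} [Field F] [Fintype F] (m : ℕ) [SzField F m]

theorem near_u {a b c d : F} (ha : a ≠ 0) (hc : c ≠ 0) : Near (u m a b : Cfsg.Sz F m) (u m c d) := by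
  obtain ⟨s, hs⟩ := (th_bijective (F := F) m).2 (c / a)
  have hs0 : s ≠ 0 := by
    rintro rfl
    rw [th_zero, eq_comm, div_eq_zero_iff] at hs
    exact hs.elim hc ha
  have hconj : t m (Units.mk0 s hs0) * u m a b * (t m (Units.mk0 s hs0))⁻¹ = u m c (s ^ 2 * th m s * b) := by
    rw [t_u]
    simp only [Units.val_mk0, hs, div_mul_cancel₀ _ ha]
  refine ⟨t m (Units.mk0 s hs0), u m 0 (d + s ^ 2 * th m s * b), ?_, ?_, ?_⟩
  · rw [u_mul, u_eq_one, add_zero]
    exact ⟨rfl, by rw [th_zero, zero_mul, add_zero, add_self m]⟩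
  · rw [hconj]
    show _ * _ = _ * _
    rw [u_mul, u_mul, u_inj, th_zero]
    constructor <;> ring
  · rw [hconj, u_mul, u_inj, add_zero, mul_zero, add_zero]
    exact ⟨rfl, by rw [add_comm d, ← add_assoc, add_self m, zero_add]⟩

theorem fourType_sz : FourType (Cfsg.Sz F m) := by
  classical
  haveI : Fact (Nat.Prime 2) := ⟨Nat.prime_two⟩
  intro x hx hx2
  obtain ⟨k, hk⟩ := hx
  have hp : IsPGroup 2 (zpowers x) := by
    rintro ⟨_, i, rfl⟩
    refine ⟨k, Subtype.ext ?_⟩
    show (x ^ i) ^ (2 ^ k) = 1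
    rw [← zpow_natCast, ← zpow_mul, mul_comm, zpow_mul, zpow_natCast, hk, one_zpow]
  obtain ⟨S, hS⟩ := hp.exists_le_sylow
  obtain ⟨g, hg⟩ := MulAction.exists_smul_eq (Cfsg.Sz F m) (sylowU (F := F) m) S
  obtain ⟨y, hyU, rfl⟩ : x ∈ (U m : Subgroup (Cfsg.Sz F m)).map (MulAut.conj g).toMonoidHom := by
    have := hS (mem_zpowers x)
    rw [← hg] at this
    exact this
  obtain ⟨a, b, rfl⟩ := (mem_U m).mp hyU
  have ha : a ≠ 0 := by
    rintro rfl
    refine hx2 ?_
    rw [← map_mul, u_mul, th_zero]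
    simp [add_self m]
  obtain ⟨s, hs⟩ : ∃ s : F, s ∉ ({0, 1} : Finset F) := by
    by_contra h
    push Not at h
    have h1 := (Finset.card_le_card (show Finset.univ ⊆ ({0, 1} : Finset F) from fun y _ => h y)).trans Finset.card_le_two
    rw [Finset.card_univ] at h1
    have := eight_le_card (F := F) m
    omega
  obtain ⟨r, hr⟩ : ∃ r : F, r ∉ ({0, 1, s, 1 + s} : Finset F) := by
    by_contra h
    push Not at h
    have h1 := (Finset.card_le_card (show Finset.univ ⊆ ({0, 1, s, 1 + s} : Finset F) from fun y _ => h y)).trans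
      (Finset.card_le_four)
    rw [Finset.card_univ] at h1
    have := eight_le_card (F := F) m
    omega
  simp only [Finset.mem_insert, Finset.mem_singleton, not_or] at hs hr
  have key : ∀ c d : F, c ≠ 0 → Near ((MulAut.conj g).toMonoidHom (u m a b)) ((MulAut.conj g).toMonoidHom (u m (a * c) d)) :=
    fun c d hc => (near_u m ha (mul_ne_zero ha hc)).map _
  have h4 : u m a b * u m a b * (u m a b * u m a b) = 1 := by
    rw [u_mul, u_mul, add_self m a, u_eq_one, th_zero, zero_mul, add_zero]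
    exact ⟨by simp, by simp [add_self m]⟩
  refine ⟨by rw [← map_mul, ← map_mul, h4, map_one],
    (U m : Subgroup (Cfsg.Sz F m)).map (MulAut.conj g).toMonoidHom, (isPGroup_U m).map _,
    _, mem_map_of_mem _ (u_mem_U m (a * s) 0), _, mem_map_of_mem _ (u_mem_U m (a * r) 0), mem_map_of_mem _ hyU,
    key _ _ hs.1, key _ _ hr.1, ?_, ?_, ?_, ?_⟩
  · rw [← map_mul, u_mul, show a + a * s = a * (1 + s) by ring]
    exact key _ _ fun h => hs.2 (by linear_combination h - add_self m (1 : F))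
  · rw [← map_mul, u_mul, show a + a * r = a * (1 + r) by ring]
    exact key _ _ fun h => hr.2.1 (by linear_combination h - add_self m (1 : F))
  · rw [← map_mul, u_mul, show a * s + a * r = a * (s + r) by ring]
    exact key _ _ fun h => hr.2.2.1 (by linear_combination h - add_self m s)
  · rw [← map_mul, ← map_mul, u_mul, u_mul, show a + a * s + a * r = a * (1 + s + r) by ring]
    exact key _ _ fun h => hr.2.2.2 (by linear_combination h - add_self m (1 + s))

end Sz

section SU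

open Cfsg Cfsg.Agent.Unitary Cfsg.Agent.H52.SUThree Cfsg.Agent.H72.PSUThree

variable {F : Type} [Field F] [Fintype F] [CharP F 2] {q : ℕ} {u w f : Fin 3 → F}

theorem fourType_suThree (hF : Fintype.card F = q ^ 2) (hq : 4 ≤ q) (hev : Even q) : FourType (SU 3 F q) := by
  classical
  haveI : Fact (Nat.Prime 2) := ⟨Nat.prime_two⟩
  obtain ⟨j, hj⟩ : ∃ j, q = 2 ^ j := by
    obtain ⟨n, -, hn⟩ := FiniteField.card F 2
    obtain ⟨j, -, hj⟩ := (Nat.dvd_prime_pow Nat.prime_two).mp
      (show q ∣ 2 ^ (n : ℕ) by rw [← hn, hF]; exact dvd_pow_self q two_ne_zero)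
    exact ⟨j, hj⟩
  obtain ⟨u, w, f, hfr⟩ := exists_frame (F := F) hF
  have htwo : ∀ a : F, a + a = 0 := CharTwo.add_self_eq_zero
  -- `uni u` is a Sylow subgroup
  have hU : IsPGroup 2 (uni u : Subgroup (SU 3 F q)) :=
    IsPGroup.of_card (n := j * 3) (by rw [card_uni hF hfr, hj, ← pow_mul])
  have hodd : ¬ 2 ∣ (uni u : Subgroup (SU 3 F q)).index := by
    have h := (uni u : Subgroup (SU 3 F q)).card_mul_index
    rw [card_uni hF hfr, H53.card_SU_three hF, mul_assoc] at h
    rw [Nat.eq_of_mul_eq_mul_left (pow_pos (by omega) 3) h, Nat.prime_two.dvd_mul]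
    have h2 : 2 ∣ q := hev.two_dvd
    have hq2 : 1 ≤ q ^ 2 := Nat.one_le_pow _ _ (by omega)
    rintro (h' | h')
    · have := Nat.dvd_sub (h2.trans (dvd_pow_self q (show 2 ≠ 0 by norm_num))) h'
      rw [Nat.sub_sub_self hq2] at this
      exact absurd this (by norm_num)
    · exact absurd ((Nat.dvd_add_right (h2.trans (dvd_pow_self q (show 3 ≠ 0 by norm_num)))).mp h') (by norm_num)
  intro x hx hx2
  obtain ⟨k, hk⟩ := hx
  have hp : IsPGroup 2 (zpowers x) := by
    rintro ⟨_, i, rfl⟩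
    refine ⟨k, Subtype.ext ?_⟩
    show (x ^ i) ^ (2 ^ k) = 1
    rw [← zpow_natCast, ← zpow_mul, mul_comm, zpow_mul, zpow_natCast, hk, one_zpow]
  obtain ⟨S, hS⟩ := hp.exists_le_sylow
  obtain ⟨g, hg⟩ := MulAction.exists_smul_eq (SU 3 F q) (hU.toSylow hodd) S
  obtain ⟨y, hyU, rfl⟩ : x ∈ (uni u : Subgroup (SU 3 F q)).map (MulAut.conj g).toMonoidHom := by
    have := hS (mem_zpowers x)
    rw [← hg] at this
    exact this
  obtain ⟨b, β, hb, rfl⟩ := (mem_uni_iff hF hfr).mp hyU
  -- squares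
  have hmul : ∀ {b β c γ : F} (h : Ok q b β) (h' : Ok q c γ) {e ε : F} (h'' : Ok q e ε), b + c = e →
      β + γ - c * b ^ q = ε → eSU hF (h.spec hfr) * eSU hF (h'.spec hfr) = eSU hF (h''.spec hfr) :=
    fun h h' _ _ h'' e1 e2 => by rw [E_mul hF hfr h h', E_congr hF hfr (h.add hF h') h'' e1 e2]
  have h4 : eSU hF (hb.spec hfr) * eSU hF (hb.spec hfr) * (eSU hF (hb.spec hfr) * eSU hF (hb.spec hfr)) = 1 := by
    rw [E_mul hF hfr hb hb, hmul (hb.add hF hb) (hb.add hF hb) (Ok.zero hF) (htwo _)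
      (by rw [htwo b, zero_mul, sub_zero, htwo]), E_zero hF hfr]
  have hb0 : b ≠ 0 := by
    rintro rfl
    refine hx2 ?_
    rw [← map_mul, hmul hb hb (Ok.zero hF) (htwo _) (by rw [zero_mul, sub_zero, htwo]), E_zero hF hfr, map_one]
  -- nearness
  have near : ∀ (l : Fˣ) {c γ : F} (hc : Ok q c γ), c = ((mu q l : Fˣ) : F) * b →
      Near (eSU hF (hb.spec hfr)) (eSU hF (hc.spec hfr)) := by
    intro l c γ hc hcb
    subst hcb
    have hok := ok_scale hF l hb
    have hz : Ok q (0 : F) (γ - ((nu q l : Fˣ) : F) * β) := by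
      have h1 := hc
      have h2 := hok
      simp only [Ok, sub_pow_q hF, zero_mul, add_zero] at *
      linear_combination h1 - h2
    have hconj : tHom hF hfr l * eSU hF (hb.spec hfr) * (tHom hF hfr l)⁻¹ = eSU hF (hok.spec hfr) := by
      rw [T_conj_E hF hfr l hb, mul_inv_cancel_right]
    refine ⟨tHom hF hfr l, eSU hF (hz.spec hfr), ?_, ?_, ?_⟩
    · rw [hmul hz hz (Ok.zero hF) (htwo _) (by rw [zero_mul, sub_zero, htwo]), E_zero hF hfr]
    · rw [hconj]
      show _ = _
      rw [E_mul hF hfr hz hok, hmul hok hz (hz.add hF hok) (add_comm _ _)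
        (by rw [zero_mul, sub_zero, zero_pow (q_ne_zero hF), mul_zero, sub_zero, add_comm])]
    · rw [hconj, hmul hok hz hc (add_zero _) (by rw [zero_mul]; ring)]
  -- the scalars
  have scalars : ∃ s r : F, s ≠ 0 ∧ r ≠ 0 ∧ 1 + s ≠ 0 ∧ 1 + r ≠ 0 ∧ s + r ≠ 0 ∧ 1 + s + r ≠ 0 ∧
      ∀ e : F, e ≠ 0 → (e = s ∨ e = r ∨ e = 1 + s ∨ e = 1 + r ∨ e = s + r ∨ e = 1 + s + r) →
        ∃ l : Fˣ, ((mu q l : Fˣ) : F) = e := by
    have pick : ∀ T : Finset F, 8 ≤ T.card → ∃ s r, s ∈ T ∧ r ∈ T ∧ s ≠ 0 ∧ r ≠ 0 ∧ 1 + s ≠ 0 ∧ 1 + r ≠ 0 ∧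
        s + r ≠ 0 ∧ 1 + s + r ≠ 0 := by
      intro T hT
      obtain ⟨s, hsT, hs⟩ : ∃ s ∈ T, s ∉ ({0, 1} : Finset F) := Finset.exists_mem_notMem_of_card_lt_card
        (lt_of_le_of_lt Finset.card_le_two (by omega))
      obtain ⟨r, hrT, hr⟩ : ∃ r ∈ T, r ∉ ({0, 1, s, 1 + s} : Finset F) := Finset.exists_mem_notMem_of_card_lt_card
        (lt_of_le_of_lt Finset.card_le_four (by omega))
      simp only [Finset.mem_insert, Finset.mem_singleton, not_or] at hs hr
      exact ⟨s, r, hsT, hrT, hs.1, hr.1, fun h => hs.2 (by linear_combination h - htwo (1 : F)),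
        fun h => hr.2.1 (by linear_combination h - htwo (1 : F)),
        fun h => hr.2.2.1 (by linear_combination h - htwo s),
        fun h => hr.2.2.2 (by linear_combination h - htwo (1 + s))⟩
    rcases (show q = 4 ∨ 8 ≤ q by
      subst hj
      match j with
      | 0 => omega
      | 1 => omega
      | 2 => exact Or.inl rfl
      | i + 3 => exact Or.inr (le_of_eq_of_le (by norm_num : (8 : ℕ) = 2 ^ 3) (Nat.pow_le_pow_right (by norm_num) (show 3 ≤ i + 3 by omega)))) with rfl | h8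
    · obtain ⟨s, r, -, -, h1, h2, h3, h4, h5, h6⟩ := pick Finset.univ (by rw [Finset.card_univ, hF]; norm_num)
      refine ⟨s, r, h1, h2, h3, h4, h5, h6, fun e he _ => ?_⟩
      refine ⟨Units.mk0 e he ^ 13, ?_⟩
      have hcard : Fintype.card Fˣ = 15 := by rw [Fintype.card_units, hF]; norm_num
      have hp : mu 4 (Units.mk0 e he ^ 13) = Units.mk0 e he := by
        show (Units.mk0 e he ^ 13) ^ (2 * 4 - 1) = _
        rw [← pow_mul, show 13 * (2 * 4 - 1) = Fintype.card Fˣ * 6 + 1 by rw [hcard], pow_succ, pow_mul,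
          pow_card_eq_one, one_pow, one_mul]
      rw [hp, Units.val_mk0]
    · set T : Finset F := Finset.univ.filter fun e => e ^ q = e
      have hT : 8 ≤ T.card := by
        have h1 : Nat.card {β : F // β + β ^ q = 0} = q := card_trace_zero hF
        rw [Nat.card_eq_fintype_card, Fintype.card_subtype] at h1
        refine h8.trans (le_of_eq_of_le h1.symm (Finset.card_le_card fun e he => ?_))
        simp only [Finset.mem_filter, T] at he ⊢
        exact ⟨he.1, by linear_combination he.2 - htwo e⟩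
      obtain ⟨s, r, hs, hr, h1, h2, h3, h4, h5, h6⟩ := pick T hT
      simp only [T, Finset.mem_filter] at hs hr
      refine ⟨s, r, h1, h2, h3, h4, h5, h6, fun e he he' => ⟨Units.mk0 e he, ?_⟩⟩
      have hpe : e ^ q = e := by
        rcases he' with rfl | rfl | rfl | rfl | rfl | rfl <;>
          simp only [add_pow_q hF, one_pow, hs.2, hr.2]
      have hmu := mu_val hF (Units.mk0 e he)
      rw [Units.val_mk0, hpe, div_self he, mul_one] at hmu
      exact hmu
  obtain ⟨s, r, hs, hr, hs1, hr1, hsr, hsr1, hsc⟩ := scalars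
  obtain ⟨γs, hγs⟩ := exists_ok hF (s * b)
  obtain ⟨γr, hγr⟩ := exists_ok hF (r * b)
  have key : ∀ {c γ : F} (hc : Ok q c γ) (e : F), c = e * b → e ≠ 0 →
      (e = s ∨ e = r ∨ e = 1 + s ∨ e = 1 + r ∨ e = s + r ∨ e = 1 + s + r) →
      Near ((MulAut.conj g).toMonoidHom (eSU hF (hb.spec hfr))) ((MulAut.conj g).toMonoidHom (eSU hF (hc.spec hfr))) := by
    intro c γ hc e hce he he'
    obtain ⟨l, hl⟩ := hsc e he he'
    exact (near l hc (by rw [hl, hce])).map _
  refine ⟨by rw [← map_mul, ← map_mul, h4, map_one],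
    (uni u : Subgroup (SU 3 F q)).map (MulAut.conj g).toMonoidHom, hU.map _,
    _, mem_map_of_mem _ (E_mem_uni hF hfr hγs), _, mem_map_of_mem _ (E_mem_uni hF hfr hγr), mem_map_of_mem _ hyU,
    key hγs s rfl hs (Or.inl rfl), key hγr r rfl hr (Or.inr (Or.inl rfl)), ?_, ?_, ?_, ?_⟩
  · rw [← map_mul, E_mul hF hfr hb hγs]
    exact key (hb.add hF hγs) (1 + s) (by ring) hs1 (by tauto)
  · rw [← map_mul, E_mul hF hfr hb hγr]
    exact key (hb.add hF hγr) (1 + r) (by ring) hr1 (by tauto)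
  · rw [← map_mul, E_mul hF hfr hγs hγr]
    exact key (hγs.add hF hγr) (s + r) (by ring) hsr (by tauto)
  · rw [← map_mul, ← map_mul, E_mul hF hfr hb hγs, E_mul hF hfr (hb.add hF hγs) hγr]
    exact key ((hb.add hF hγs).add hF hγr) (1 + s + r) (by ring) hsr1 (by tauto)

end SU

open H76.PostBender in
/-- Every group of Bender's list satisfies `FourType`. -/
theorem fourType_of_bender {G : Type*} [Group G] [Finite G] (hB : IsBenderGroup G) : FourType G := by
  rcases hB with ⟨F, _, _, hc, -, ⟨e⟩⟩ | h | ⟨F, _, _, q, hF, hq, h4, ⟨e⟩⟩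
  · haveI := hc
    exact fourType_slTwo.of_surjective (φ := e.symm.toMonoidHom.comp
      (QuotientGroup.mk' (center (Matrix.SpecialLinearGroup (Fin 2) F))))
      (e.symm.surjective.comp (QuotientGroup.mk'_surjective _))
  · obtain ⟨F, _, _, m, hm, hF, ⟨e⟩⟩ := h
    haveI : Suzuki.SzField F m := ⟨hF, hm⟩
    exact (fourType_sz m).of_surjective (φ := e.symm.toMonoidHom.comp (Suzuki.lieEquiv m).toMonoidHom)
      (e.symm.surjective.comp (Suzuki.lieEquiv m).surjective)
  · haveI := charP_two_of_card hF hq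
    exact (fourType_suThree hF h4 hq).of_surjective (φ := e.symm.toMonoidHom.comp
      (QuotientGroup.mk' (center (Cfsg.SU 3 F q))))
      (e.symm.surjective.comp (QuotientGroup.mk'_surjective _))

end Cfsg.Agent.H3.RootInv.CoverFree
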