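import Cfsg.Agent.H3.RootInv.Finish

/-!
For the induction: an involution of the group generated by the members centralising a bad involution, fixing two
blocks of it, centralises all these members.
-/

set_option autoImplicit false
set_option linter.style.haveILetI false

namespace Cfsg.Agent.H3.RootInv

open Subgroup Cfsg.Agent.H87

universe u

variable {G : Type u} [Group G] [Finite G] {D : Set G} {R : G → G → Prop}

/-- `Good` in all smaller groups. -/
def GoodBelow (n : ℕ) : Prop :=
  ∀ (H : Type u) [Group H] [Finite H] (E : Set H) (S : H → H → Prop), Nat.card H < n → Faithful E S → Good E S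

/-- The members in a subgroup. -/
def restrict (D : Set G) (L : Subgroup G) : Set L := {d | (d : G) ∈ D}

/-- The relation in a subgroup. -/
def restrictRel (R : G → G → Prop) (L : Subgroup G) : L → L → Prop := fun a b => R a b

theorem mul_self_mul {a b : G} (ha : a * a = 1) (hb : b * b = 1) (h : Commute a b) : a * b * (a * b) = 1 := by
  rw [mul_assoc, ← mul_assoc b, ← h.eq, mul_assoc a b, hb, mul_one, ha]

/-- Basic facts on the group generated by the members centralising `x`. -/
structure LineFacts (D : Set G) (R : G → G → Prop) (x : G) (L : Subgroup G) : Prop where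
  eq : L = closure {d | d ∈ D ∧ Commute x d}
  central : ∀ g ∈ L, Commute x g
  mem : ∀ d ∈ D, Commute x d → d ∈ L
  config : Config (restrict D L) (restrictRel R L)
  good : ∀ [hn : config.ker.Normal], Faithful (QuotientGroup.mk' config.ker '' restrict D L)
      (relImage (QuotientGroup.mk' config.ker) (restrict D L) (restrictRel R L)) ∧
    Good (QuotientGroup.mk' config.ker '' restrict D L)
      (relImage (QuotientGroup.mk' config.ker) (restrict D L) (restrictRel R L))
  clique : ∀ A : Set L, A ⊆ restrict D L → (∀ p ∈ A, ∀ q ∈ A, Commute p q) →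
    ∀ g : L, g ∈ config.ker → g ∈ closure A → g * g = 1 → g = 1

theorem Faithful.lineFacts (F : Faithful D R) (ih : GoodBelow.{u} (Nat.card G)) {x : G}
    (hx : TwoComp D R x) : ∃ L : Subgroup G, LineFacts D R x L := by
  obtain ⟨-, hx1, a, ha, b, hb, hxa, hxb, hab⟩ := hx
  refine ⟨closure {d | d ∈ D ∧ Commute x d}, ?_⟩
  set L := closure {d | d ∈ D ∧ Commute x d} with hL
  set E := restrict D L
  set S := restrictRel R L
  have hxL : ∀ g ∈ L, Commute x g := by
    intro g hg
    induction hg using closure_induction with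
    | mem y hy => exact hy.2
    | one => exact Commute.one_right x
    | mul y z _ _ hy hz => exact hy.mul_right hz
    | inv y _ hy => exact hy.inv_right
  have hmem : ∀ d ∈ D, Commute x d → d ∈ L := fun d hd hc => subset_closure ⟨hd, hc⟩
  have hroot : Cfsg.IsRootInvolutionSet E := by
    refine ⟨fun d hd => by rw [← Subgroup.orderOf_coe]; exact F.root.orderOf_eq _ hd, ?_,
      fun d hd g => by simpa [E, restrict] using F.root.conj_mem _ hd (g : G), fun p hp q hq => ?_⟩
    · refine map_injective L.subtype_injective ?_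
      rw [MonoidHom.map_closure, ← MonoidHom.range_eq_map, Subgroup.range_subtype]
      refine le_antisymm ((closure_le _).2 ?_) ?_
      · rintro _ ⟨d, -, rfl⟩
        exact d.2
      · exact (closure_le _).2 fun d hd => subset_closure ⟨⟨d, hmem d hd.1 hd.2⟩, hd.1, rfl⟩
    · rcases F.root.pair _ hp _ hq with h | h | ⟨h, h'⟩
      · exact Or.inl (Subtype.ext h)
      · exact Or.inr (Or.inl (by rwa [← Subgroup.orderOf_coe]))
      · exact Or.inr (Or.inr ⟨by rwa [← Subgroup.orderOf_coe], h'⟩)
  have hC : Config E S :=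
    { root := hroot
      refl := fun p => F.refl _
      symm := fun h => F.symm h
      trans := fun h h' => F.trans h h'
      conj := fun g h => by simpa [S, restrictRel] using F.conj (g : G) h
      of_commute := fun hp hq h => F.of_commute hp hq (congrArg Subtype.val h.eq)
      nonempty := ⟨⟨a, hmem a ha hxa⟩, ha⟩
      disc := fun d _ => by
        by_cases h : R (d : G) a
        · exact ⟨⟨b, hmem b hb hxb⟩, hb, fun h' => hab (F.trans (F.symm h) h')⟩
        · exact ⟨⟨a, hmem a ha hxa⟩, ha, h⟩ }
  refine ⟨hL, hxL, hmem, hC, ?_, ?_⟩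
  · intro hn
    have hFQ := hC.quotient_faithful hC.ker rfl
    refine ⟨hFQ, ih _ _ _ ?_ hFQ⟩
    refine lt_of_le_of_lt (Nat.card_le_card_of_surjective _ (QuotientGroup.mk'_surjective hC.ker)) ?_
    refine lt_of_le_of_ne (Subgroup.card_le_card_group L) fun h => hx1 ?_
    have htop := eq_top_of_card_eq L h
    refine F.faithful x fun e he => ?_
    rw [(hxL e (htop ▸ mem_top e)).eq, mul_inv_cancel_right]
    exact F.refl e
  · intro A hA hAc g hg hgA hg2
    by_contra hne
    refine hab (F.same_of_mem_closure (A := Subtype.val '' A) ?_ ?_ (x := (g : G)) ?_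
      (congrArg Subtype.val hg2) (fun h => hne (Subtype.ext h)) ha hb
      (by simpa [S, restrictRel] using hC.mem_ker.mp hg ⟨a, hmem a ha hxa⟩ ha)
      (by simpa [S, restrictRel] using hC.mem_ker.mp hg ⟨b, hmem b hb hxb⟩ hb))
    · rintro _ ⟨p, hp, rfl⟩
      exact hA hp
    · rintro _ ⟨p, hp, rfl⟩ _ ⟨q, hq, rfl⟩
      exact congrArg Subtype.val (hAc p hp q hq).eq
    · have h1 := mem_map_of_mem L.subtype hgA
      rw [MonoidHom.map_closure] at h1
      exact h1

namespace LineFacts

variable {x : G} {L : Subgroup G} (F : LineFacts D R x L)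
include F


theorem eq_of_mul_mem {p q : L} (hp : p ∈ restrict D L) (hq : q ∈ restrict D L) (hc : Commute p q)
    (h : p * q ∈ F.config.ker) : p = q := by
  have hp1 := Inv.sq_eq F.config.root hp
  have hq1 := Inv.sq_eq F.config.root hq
  have h1 := F.clique {p, q} (Set.insert_subset hp (Set.singleton_subset_iff.mpr hq))
    (by rintro s (rfl | rfl) t (rfl | rfl) <;> first | exact Commute.refl _ | exact hc | exact hc.symm)
    _ h (mul_mem (subset_closure (Set.mem_insert _ _)) (subset_closure (Set.mem_insert_of_mem _ rfl)))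
    (mul_self_mul hp1 hq1 hc)
  exact (eq_inv_of_mul_eq_one_left h1).trans (inv_eq_of_mul_eq_one_left hq1)


theorem commute_of_image {p q : L} [F.config.ker.Normal] (hp : p ∈ restrict D L) (hq : q ∈ restrict D L)
    (hne : QuotientGroup.mk' F.config.ker p ≠ QuotientGroup.mk' F.config.ker q)
    (h : Commute (QuotientGroup.mk' F.config.ker p) (QuotientGroup.mk' F.config.ker q)) : Commute p q := by
  have hroot := F.config.root
  set π := QuotientGroup.mk' F.config.ker
  have h2 : π (p * q) * π (p * q) = 1 := by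
    rw [map_mul]
    exact mul_self_mul (by rw [← map_mul, Inv.sq_eq hroot hp, map_one])
      (by rw [← map_mul, Inv.sq_eq hroot hq, map_one]) h
  rcases Inv.cases' hroot hp hq with h' | h' | h'
  · exact h'
  · exfalso
    have h3 : π (p * q) = 1 := Inv.eq_one_of_odd h2 h'.2.2.2 (by rw [← map_pow, pow_orderOf_eq_one, map_one])
    rw [map_mul] at h3
    exact hne ((eq_inv_of_mul_eq_one_left h3).trans (by rw [← map_inv, Inv.inv_eq hroot hq]))
  · exfalso
    refine F.config.not_mem_ker (Inv.four_data hroot h').1 ((QuotientGroup.eq_one_iff _).mp ?_)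
    show π ((p * q) ^ 2) = 1
    rw [map_pow, pow_two, h2]

/-- A commuting pair of members gives a pair with product a member. -/
theorem exists_partner {c d : L} (hc : c ∈ restrict D L) (hd : d ∈ restrict D L) (hcd : Commute c d) (hne : c ≠ d) :
    ∃ a ∈ restrict D L, ∃ b ∈ restrict D L, a ≠ b ∧ Commute a b ∧ a * b ∈ restrict D L := by
  haveI := F.config.ker_normal
  obtain ⟨hFQ, hgood⟩ := F.good
  have hroot := F.config.root
  set E := restrict D L
  set π := QuotientGroup.mk' F.config.ker
  have hcdN : c * d ∉ F.config.ker := fun h => hne (F.eq_of_mul_mem hc hd hcd h)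
  have hπd : π d ≠ 1 := F.config.mk_ne_one _ rfl hd
  have hπc : π c ≠ 1 := F.config.mk_ne_one _ rfl hc
  have hcd2 := mul_self_mul (Inv.sq_eq hroot hc) (Inv.sq_eq hroot hd) hcd
  have ho2 : orderOf (π (c * d)) = 2 := orderOf_eq_prime (by rw [pow_two, ← map_mul, hcd2, map_one])
    fun h => hcdN ((QuotientGroup.eq_one_iff _).mp h)
  obtain ⟨g, hg⟩ := isConj_iff.mp (H39.se_involutions_conj (hFQ.isSE hgood (d := π d) ⟨d, hd, rfl⟩)
    (hFQ.root.orderOf_eq _ ⟨d, hd, rfl⟩) ho2)
  obtain ⟨e, he, hee⟩ : π (c * d) ∈ π '' E := hg ▸ hFQ.root.conj_mem _ ⟨d, hd, rfl⟩ g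
  have hec : Commute c e := F.commute_of_image hc he
    (fun (h : π c = π e) => hπd (by rw [hee, map_mul] at h; exact left_eq_mul.mp h))
    (by show Commute (π c) (π e); rw [hee, map_mul]; exact (Commute.refl _).mul_right (hcd.map π))
  have hed : Commute d e := F.commute_of_image hd he
    (fun (h : π d = π e) => hπc (by rw [hee, map_mul] at h; exact right_eq_mul.mp h))
    (by show Commute (π d) (π e); rw [hee, map_mul]; exact (hcd.symm.map π).mul_right (Commute.refl _))
  refine ⟨c, hc, d, hd, hne, hcd, ?_⟩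
  have hy : c * d * e ∈ F.config.ker := (QuotientGroup.eq_one_iff _).mp (by
    show π (c * d * e) = 1
    rw [map_mul, ← hee, ← map_mul, Inv.sq_eq hroot he, map_one])
  have h1 := F.clique {c, d, e} (Set.insert_subset hc (Set.insert_subset hd (Set.singleton_subset_iff.mpr he)))
    (by rintro p (rfl | rfl | rfl) q (rfl | rfl | rfl) <;>
      first | exact Commute.refl _ | exact hcd | exact hcd.symm | exact hec | exact hec.symm | exact hed |
        exact hed.symm) _ hy
    (mul_mem (mul_mem (subset_closure (Set.mem_insert _ _))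
      (subset_closure (Set.mem_insert_of_mem _ (Set.mem_insert _ _))))
      (subset_closure (Set.mem_insert_of_mem _ (Set.mem_insert_of_mem _ rfl))))
    (mul_self_mul hcd2 (Inv.sq_eq hroot he) (hec.mul_left hed))
  rw [(eq_inv_of_mul_eq_one_left h1).trans (Inv.inv_eq hroot he)]
  exact he

/-- Without commuting members every involution of the line group is a member. -/
theorem mem_of_isolated (hA : ∀ p q : L, p ∈ restrict D L → q ∈ restrict D L → Commute p q → p = q)
    {t : L} (ht : orderOf t = 2) : t ∈ restrict D L := by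
  haveI : Fact (Nat.Prime 2) := ⟨Nat.prime_two⟩
  have hroot := F.config.root
  obtain ⟨d, hd⟩ := F.config.nonempty
  obtain ⟨P, hP⟩ := (IsPGroup.of_card (n := 1)
    (show Nat.card (zpowers d) = 2 ^ 1 by rw [Nat.card_zpowers, hroot.orderOf_eq d hd, pow_one])).exists_le_sylow
  have hdP : d ∈ P := hP (mem_zpowers d)
  have hiso : ∀ g : L, g * d * g⁻¹ ∈ P → g * d * g⁻¹ = d := by
    intro g hg
    have hgE := hroot.conj_mem d hd g
    rcases Inv.cases' hroot hgE hd with h | h | h
    · exact hA _ _ hgE hd h
    · exfalso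
      obtain ⟨j, hj⟩ := P.isPGroup' ⟨g * d * g⁻¹ * d, mul_mem hg hdP⟩
      obtain ⟨i, -, hi⟩ := (Nat.dvd_prime_pow Nat.prime_two).1
        (orderOf_dvd_of_pow_eq_one (congrArg Subtype.val hj : (g * d * g⁻¹ * d) ^ (2 ^ j) = 1))
      have ho := h.2.2.2
      rw [hi] at ho
      rcases Nat.eq_zero_or_pos i with rfl | hip
      · rw [pow_zero, orderOf_eq_one_iff] at hi
        exact h.2.2.1 ((eq_inv_of_mul_eq_one_left hi).trans (Inv.inv_eq hroot hd))
      · exact absurd ho (by simp [Nat.odd_pow_iff hip.ne', show ¬ Odd 2 by decide])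
    · exfalso
      obtain ⟨hs, hsa, hsd, -, -, -⟩ := Inv.four_data hroot h
      refine Inv.four_not_commute hroot h ?_
      rw [hA _ _ hs hd hsd] at hsa
      exact hsa.symm
  have hz := Cores.glaubermanZStar P (hroot.orderOf_eq d hd) hdP hiso
  have htop : Cfsg.oddCore L ⊔ zpowers d = ⊤ := by
    rw [eq_top_iff, ← hroot.generates, closure_le]
    intro q hq
    obtain ⟨g, rfl⟩ := F.config.exists_conj hd hq
    have h1 := hz g
    rw [Inv.inv_eq hroot hd] at h1
    rw [SetLike.mem_coe, show g * d * g⁻¹ = d⁻¹ * (d * g * d * g⁻¹) by group]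
    exact mul_mem (inv_mem (mem_sup_right (mem_zpowers d))) (mem_sup_left h1)
  obtain ⟨o, ho, _, ⟨m, rfl⟩, hot⟩ := mem_sup_of_normal_left.mp (htop ▸ mem_top t)
  have hd2 : d * d = 1 := Inv.sq_eq hroot hd
  obtain ⟨k, rfl | rfl⟩ := Int.even_or_odd' m
  · simp only [zpow_mul, zpow_two, hd2, one_zpow, mul_one] at hot
    have hd1 := orderOf_dvd_natCard (⟨t, hot ▸ ho⟩ : Cfsg.oddCore L)
    rw [Subgroup.orderOf_mk, ht, ← even_iff_two_dvd] at hd1
    exact absurd hd1 (Nat.not_even_iff_odd.mpr Cores.odd_card_oddCore)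
  · simp only [zpow_add, zpow_mul, zpow_two, hd2, one_zpow, one_mul, zpow_one] at hot
    have hodd' : Odd (orderOf (t * d)) := by
      rw [← hot, mul_assoc, hd2, mul_one, ← Subgroup.orderOf_mk o ho]
      exact Cores.odd_card_oddCore.of_dvd_nat (orderOf_dvd_natCard _)
    obtain ⟨g, -, -, -, hg⟩ := H39.exists_conj_of_odd (hroot.orderOf_eq d hd) ht hodd'
    exact hg ▸ hroot.conj_mem d hd g

/-- With partners the kernel centralises every member. -/
theorem ker_le_center (hp : ∃ a ∈ restrict D L, ∃ b ∈ restrict D L, a ≠ b ∧ Commute a b ∧ a * b ∈ restrict D L)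
    {k : L} (hk : k ∈ F.config.ker) : k ∈ center L := by
  haveI := F.config.ker_normal
  have hroot := F.config.root
  have key : closure (restrict D L) ≤ centralizer ({k} : Set L) := by
    refine (closure_le _).2 fun d hd => ?_
    have hd' := hroot.conj_mem d hd k
    have hprod : d * (k * d * k⁻¹) ∈ F.config.ker := by
      rw [show d * (k * d * k⁻¹) = d * k * d * k⁻¹ by group]
      refine mul_mem ?_ (inv_mem hk)
      have := Subgroup.Normal.conj_mem (inferInstance : F.config.ker.Normal) k hk d
      rwa [Inv.inv_eq hroot hd] at this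
    rw [SetLike.mem_coe, mem_centralizer_singleton_iff]
    rcases Inv.cases' hroot hd hd' with hc | hodd | hfour
    · have h := F.eq_of_mul_mem hd hd' hc hprod
      calc d * k = k * d * k⁻¹ * k := by rw [← h]
        _ = k * d := by group
    · exact absurd hodd (F.config.not_oddAdj (F.config.hasPartners hp) hd hk)
    · exact absurd (pow_mem hprod 2) (F.config.not_mem_ker (Inv.four_data hroot hfour).1)
  refine mem_center_iff.mpr fun g => ?_
  exact mem_centralizer_singleton_iff.mp (key (hroot.generates ▸ mem_top g))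

end LineFacts

theorem Faithful.centralizes_of_mem_line (F : Faithful D R) (ih : GoodBelow.{u} (Nat.card G)) {x : G}
    (hx : TwoComp D R x) {t : G} (ht2 : orderOf t = 2) (htL : t ∈ closure {d | d ∈ D ∧ Commute x d})
    {a b : G} (ha : a ∈ D) (hxa : Commute x a) (hb : b ∈ D) (hxb : Commute x b) (hab : ¬ R a b)
    (hta : R a (t * a * t⁻¹)) (htb : R b (t * b * t⁻¹)) :
    ∀ d ∈ D, Commute x d → Commute t d := by
  obtain ⟨L, LF⟩ := F.lineFacts ih hx
  haveI := LF.config.ker_normal
  obtain ⟨-, hgood⟩ := LF.good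
  set π := QuotientGroup.mk' LF.config.ker
  set tL : L := ⟨t, LF.eq ▸ htL⟩
  have ht2' : orderOf tL = 2 := by rw [← Subgroup.orderOf_coe]; exact ht2
  have htt : tL * tL = 1 := by rw [← pow_two, ← ht2', pow_orderOf_eq_one]
  -- `t` is in the kernel
  have htN : tL ∈ LF.config.ker := by
    by_contra h
    refine hab (LF.config.rel_of_relImage _ rfl (a := ⟨a, LF.mem a ha hxa⟩) (b := ⟨b, LF.mem b hb hxb⟩)
      ha hb (hgood (π tL) (by rw [← map_mul, htt, map_one]) (fun h1 => h ((QuotientGroup.eq_one_iff _).mp h1))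
        _ ⟨_, ha, rfl⟩ _ ⟨_, hb, rfl⟩ ?_ ?_))
    · refine Or.inr ⟨⟨a, LF.mem a ha hxa⟩, ha, _, LF.config.root.conj_mem ⟨a, LF.mem a ha hxa⟩ ha tL, rfl,
        by simp [π], ?_⟩
      simpa [restrictRel, tL] using hta
    · refine Or.inr ⟨⟨b, LF.mem b hb hxb⟩, hb, _, LF.config.root.conj_mem ⟨b, LF.mem b hb hxb⟩ hb tL, rfl,
        by simp [π], ?_⟩
      simpa [restrictRel, tL] using htb
  intro d hd hxd
  by_cases hA : ∀ p q : L, p ∈ restrict D L → q ∈ restrict D L → Commute p q → p = q
  · exact absurd htN (LF.config.not_mem_ker (LF.mem_of_isolated hA ht2'))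
  push Not at hA
  obtain ⟨p, q, hp, hq, hpq, hne⟩ := hA
  have hcen := LF.ker_le_center (LF.exists_partner hp hq hpq hne) htN
  exact congrArg Subtype.val (mem_center_iff.mp hcen ⟨d, LF.mem d hd hxd⟩).symm

end Cfsg.Agent.H3.RootInv
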