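import Cfsg.Agent.H3.RootInv.Criterion
import Cfsg.Agent.H3.RootInv.FourModels

/-!
No involution centralising members of two blocks lies in the group generated by the members centralising it.
-/

set_option autoImplicit false
set_option linter.style.haveILetI false

namespace Cfsg.Agent.H3.RootInv

open Subgroup Cfsg.Agent.H87
open scoped IsMulCommutative commutatorElement

universe u

/-- A non-trivial finite abelian group of even order has a subgroup of index two. -/
theorem exists_index_two {A : Type*} [Group A] [Finite A] (hcomm : ∀ a b : A, Commute a b)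
    {t : A} (ht : t * t = 1) (ht1 : t ≠ 1) : ∃ M : Subgroup A, M ≠ ⊤ ∧ ∀ y, y ∉ M → ∀ z, z ∈ M ∨ y⁻¹ * z ∈ M := by
  let f : A →* A :=
    { toFun := fun a => a * a
      map_one' := one_mul 1
      map_mul' := fun a b => (hcomm b a).mul_mul_mul_comm a b }
  have hf : f.range ≠ ⊤ := by
    intro h
    have hs : Function.Surjective f := MonoidHom.range_eq_top.mp h
    have hi : Function.Injective f := Finite.injective_iff_surjective.mpr hs
    exact ht1 (hi (show f t = f 1 by show t * t = 1 * 1; rw [ht, one_mul]))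
  classical
  obtain ⟨M, ⟨hM1, hM2⟩, hMmax⟩ := (Set.toFinite {M : Subgroup A | f.range ≤ M ∧ M ≠ ⊤}).exists_maximal
    ⟨f.range, le_rfl, hf⟩
  refine ⟨M, hM2, fun y hy z => ?_⟩
  have hsup : M ⊔ zpowers y = ⊤ := by
    by_contra h
    exact hy (hMmax ⟨hM1.trans le_sup_left, h⟩ le_sup_left (mem_sup_right (mem_zpowers y)))
  haveI : M.Normal := ⟨fun n hn g => by rw [(hcomm g n).eq, mul_inv_cancel_right]; exact hn⟩
  obtain ⟨a, ha, _, ⟨k, rfl⟩, hz⟩ := mem_sup_of_normal_left.mp (hsup ▸ mem_top z)
  obtain ⟨j, rfl | rfl⟩ := Int.even_or_odd' k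
  · left
    rw [← hz]
    show a * y ^ (2 * j) ∈ M
    rw [zpow_mul]
    exact mul_mem ha (zpow_mem (hM1 ⟨y, by show y * y = y ^ (2 : ℤ); rw [zpow_two]⟩) j)
  · right
    rw [← hz]
    show y⁻¹ * (a * y ^ (2 * j + 1)) ∈ M
    rw [zpow_add, zpow_mul, zpow_one, (hcomm a _).eq]
    rw [show y⁻¹ * ((y ^ (2 : ℤ)) ^ j * y * a) = (y ^ (2 : ℤ)) ^ j * a by
      rw [((Commute.refl y).zpow_left 2).zpow_left j |>.eq]; group]
    exact mul_mem (zpow_mem (hM1 ⟨y, by show y * y = y ^ (2 : ℤ); rw [zpow_two]⟩) j) ha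

variable {G : Type u} [Group G] [Finite G] {D : Set G} {R : G → G → Prop}

/-- `InvData` in a strongly embedded group of Bender's list. -/
theorem invData_of_se {Q : Type u} [Group Q] [Finite Q] (hB : H76.PostBender.IsBenderGroup Q) {H : Subgroup Q}
    (hH : Cfsg.IsStronglyEmbedded H) (hcen : center Q = ⊥) : CoverFree.InvData Q := by
  haveI : Fact (Nat.Prime 2) := ⟨Nat.prime_two⟩
  refine ⟨fun s t hs ht => isConj_iff.mp (H39.se_involutions_conj hH hs ht), fun P hP s hs hs2 y hy => ?_, hcen⟩
  by_cases hs1 : s = 1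
  · exact hs1 ▸ Commute.one_left y
  obtain ⟨S, hS⟩ := H76.PostBender.eq_normalizer hB hH
  obtain ⟨T, hT⟩ := hP.exists_le_sylow
  obtain ⟨g, hg⟩ := MulAction.exists_smul_eq Q S T
  have hmem : ∀ z : Q, z ∈ P → g⁻¹ * z * g ∈ (S : Subgroup Q) := fun z hz => by
    have := hT hz
    rw [← hg, Sylow.coe_subgroup_smul, mem_pointwise_smul_iff_inv_smul_mem] at this
    simpa [mul_assoc] using this
  -- an involution central in `S`
  haveI : Nontrivial (S : Subgroup Q) := ⟨⟨⟨_, hmem s hs⟩, 1, fun h => hs1 (by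
    have := congrArg (fun z => g * z * g⁻¹) (congrArg Subtype.val h)
    simpa [mul_assoc] using this)⟩⟩
  haveI := S.isPGroup'.center_nontrivial
  obtain ⟨n, hn, hc⟩ := (S.isPGroup'.to_subgroup (center (S : Subgroup Q))).nontrivial_iff_card.mp inferInstance
  obtain ⟨z, hz⟩ := exists_prime_orderOf_dvd_card' (G := center (S : Subgroup Q)) 2 (hc ▸ dvd_pow_self 2 hn.ne')
  have hz2 : orderOf ((z : (S : Subgroup Q)) : Q) = 2 := by rw [Subgroup.orderOf_coe, Subgroup.orderOf_coe, hz]
  have hso : orderOf (g⁻¹ * s * g) = 2 := by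
    have h := orderOf_eq_prime (x := s) (p := 2) (by rw [pow_two, hs2]) hs1
    simpa [h] using H39.orderOf_conj g⁻¹ s
  obtain ⟨h, hh, hhz⟩ := H76.PostBender.exists_conj_in hH hz2 (hS ▸ le_normalizer z.1.2) hso
    (hS ▸ le_normalizer (hmem s hs))
  rw [hS] at hh
  have hy' : h⁻¹ * (g⁻¹ * y * g) * h ∈ (S : Subgroup Q) := by
    have := (mem_normalizer_iff.mp (inv_mem hh) (g⁻¹ * y * g)).mp (hmem y hy)
    simpa using this
  have hzc : ((z : (S : Subgroup Q)) : Q) * (h⁻¹ * (g⁻¹ * y * g) * h) =
      h⁻¹ * (g⁻¹ * y * g) * h * ((z : (S : Subgroup Q)) : Q) :=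
    (congrArg Subtype.val (mem_center_iff.mp z.2 ⟨_, hy'⟩)).symm
  show s * y = y * s
  have e : s = g * h * ((z : (S : Subgroup Q)) : Q) * h⁻¹ * g⁻¹ := by
    calc s = g * (g⁻¹ * s * g) * g⁻¹ := by group
      _ = _ := by rw [← hhz]; group
  calc s * y = g * h * (((z : (S : Subgroup Q)) : Q) * (h⁻¹ * (g⁻¹ * y * g) * h)) * h⁻¹ * g⁻¹ := by rw [e]; group
    _ = y * s := by rw [hzc, e]; group

/-- `InnerHyp` from Bender's theorem. -/
theorem innerHyp_of (hBend : H76.PostBender.BenderHyp.{u}) : InnerHyp.{u} := by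
  intro G _ _ D R F ih x hx hxL
  obtain ⟨L, LF⟩ := F.lineFacts ih hx
  haveI := LF.config.ker_normal
  obtain ⟨hFQ, hgood⟩ := LF.good
  have hroot := LF.config.root
  set π := QuotientGroup.mk' LF.config.ker with hπdef
  set xL : L := ⟨x, LF.eq ▸ hxL⟩ with hxdef
  have hx2 : xL * xL = 1 := Subtype.ext hx.1
  have hx1 : xL ≠ 1 := fun h => hx.2.1 (congrArg Subtype.val h)
  have hxN : xL ∈ LF.config.ker := LF.config.mem_ker.mpr fun e he => by
    show R (e : G) ((xL * e * xL⁻¹ : L) : G)
    simp only [Subgroup.coe_mul, Subgroup.coe_inv, xL]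
    rw [(LF.central e e.2).eq, mul_inv_cancel_right]
    exact F.refl _
  -- a commuting pair
  by_cases hA : ∀ p q : L, p ∈ restrict D L → q ∈ restrict D L → Commute p q → p = q
  · exact LF.config.not_mem_ker (LF.mem_of_isolated hA (orderOf_eq_prime (by rw [pow_two, hx2]) hx1)) hxN
  push Not at hA
  obtain ⟨p, q, hp, hq, hpq, hne⟩ := hA
  have hpart := LF.exists_partner hp hq hpq hne
  have hcen := fun (k : L) (hk : k ∈ LF.config.ker) => LF.ker_le_center hpart hk
  obtain ⟨a, ha, b, hb, hab, hcab, hm⟩ := hpart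
  -- the quotient
  obtain ⟨a', ha', b', hb', hab', hcab', -⟩ :=
    LF.config.image_partner LF.config.ker rfl ⟨a, ha, b, hb, hab, hcab, hm⟩
  have hB := hFQ.isBenderGroup hgood hBend ⟨a', ha', b', hb', hab', hcab'⟩
  have hQc : center (L ⧸ LF.config.ker) = ⊥ := eq_bot_iff.mpr fun g hg => mem_bot.mpr (hFQ.faithful g fun e _ => by
    rw [← mem_center_iff.mp hg e, mul_inv_cancel_right]; exact hFQ.refl e)
  have hI := invData_of_se hB (hFQ.isSE hgood ha') hQc
  -- perfectness
  have hperf : commutator L = ⊤ := by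
    rw [eq_top_iff, ← hroot.generates, closure_le]
    intro d hd
    obtain ⟨g, rfl⟩ := LF.config.exists_conj ha hd
    obtain ⟨h1, hh1⟩ := LF.config.exists_conj ha hb
    obtain ⟨h2, hh2⟩ := LF.config.exists_conj ha hm
    set ρ := Abelianization.of (G := L)
    have hconj : ∀ g y : L, ρ (g * y * g⁻¹) = ρ y := fun g y => by
      rw [map_mul, map_mul, map_inv, mul_comm (ρ g), mul_inv_cancel_right]
    have hab2 : ρ a * ρ a = ρ a * 1 := by
      rw [mul_one]
      calc ρ a * ρ a = ρ a * ρ b := by rw [← hh1, hconj]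
        _ = ρ (a * b) := (map_mul ρ a b).symm
        _ = ρ a := by rw [← hh2, hconj]
    have h1 : ρ (g * a * g⁻¹) = 1 := by rw [hconj]; exact mul_left_cancel hab2
    rw [SetLike.mem_coe, ← Abelianization.ker_of (G := L)]
    exact h1
  -- an index two subgroup of the kernel
  set N := LF.config.ker
  obtain ⟨M, hMtop, hM⟩ := exists_index_two (A := N)
    (fun s t => Subtype.ext (mem_center_iff.mp (hcen t t.2) s)) (t := ⟨xL, hxN⟩) (Subtype.ext hx2)
    (fun h => hx1 (congrArg Subtype.val h))
  obtain ⟨y, hyM⟩ : ∃ y : N, y ∉ M := by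
    by_contra h
    push Not at h
    exact hMtop (eq_top_iff.mpr fun z _ => h z)
  have hsplit := hM y hyM
  set M1 := M.map N.subtype with hM1
  haveI : M1.Normal := ⟨fun n hn g => by
    obtain ⟨k, hk, rfl⟩ := hn
    have h := mem_center_iff.mp (hcen k k.2) g
    show g * (k : L) * g⁻¹ ∈ M1
    rw [h, mul_inv_cancel_right]
    exact ⟨k, hk, rfl⟩⟩
  set τ := QuotientGroup.mk' M1
  have hle : M1 ≤ N := map_subtype_le M
  set π1 : L ⧸ M1 →* L ⧸ N := QuotientGroup.map M1 N (MonoidHom.id L) (fun z hz => hle hz)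
  have hπ1 : ∀ z : L, π1 (τ z) = π z := fun z => rfl
  have hyM1 : ((y : N) : L) ∉ M1 := fun h => by
    obtain ⟨k, hk, hky⟩ := h
    exact hyM (Subtype.ext hky ▸ hk)
  have hS : CoverFree.Setup π1 (τ '' restrict D L) (τ y) := by
    refine ⟨fun z => ?_, ?_, ?_, ?_, ?_, ?_, ?_, fun g => ?_, fun z hz => ?_, ?_⟩
    · obtain ⟨w, rfl⟩ := QuotientGroup.mk'_surjective _ z
      exact ⟨τ w, hπ1 w⟩
    · rw [← MonoidHom.map_closure, hroot.generates]
      exact map_top_of_surjective τ (QuotientGroup.mk'_surjective _)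
    · rintro _ ⟨d, hd, rfl⟩
      exact ⟨by rw [← map_mul, Inv.sq_eq hroot hd, map_one],
        fun h => LF.config.not_mem_ker hd (hle ((QuotientGroup.eq_one_iff d).mp h))⟩
    · rintro _ ⟨d, hd, rfl⟩ g
      obtain ⟨w, rfl⟩ := QuotientGroup.mk'_surjective _ g
      exact ⟨w * d * w⁻¹, hroot.conj_mem d hd w, by simp [τ]⟩
    · have h := map_commutator (G := L) (f := τ) ⊤ ⊤
      rw [← _root_.commutator_def, map_top_of_surjective τ (QuotientGroup.mk'_surjective _), ← _root_.commutator_def, hperf,
        map_top_of_surjective τ (QuotientGroup.mk'_surjective _)] at h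
      exact h.symm
    · exact fun h => hyM1 ((QuotientGroup.eq_one_iff _).mp h)
    · rw [← map_mul]
      refine (QuotientGroup.eq_one_iff _).mpr ⟨y * y, ?_, rfl⟩
      rcases hsplit (y * y) with h | h
      · exact h
      · rw [inv_mul_cancel_left] at h; exact absurd h hyM
    · obtain ⟨w, rfl⟩ := QuotientGroup.mk'_surjective _ g
      exact (show Commute (y : L) w from (mem_center_iff.mp (hcen y y.2) w).symm).map τ
    · obtain ⟨w, rfl⟩ := QuotientGroup.mk'_surjective _ z
      have hw : w ∈ N := (QuotientGroup.eq_one_iff w).mp hz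
      rcases hsplit ⟨w, hw⟩ with h | h
      · exact Or.inl ((QuotientGroup.eq_one_iff w).mpr ⟨_, h, rfl⟩)
      · exact Or.inr (QuotientGroup.eq.mpr (by
          have h' : ((y : L))⁻¹ * w ∈ M1 := ⟨_, h, rfl⟩
          have := inv_mem h'
          rwa [mul_inv_rev, inv_inv] at this))
    · intro A hAD hAc hcA
      set A' := restrict D L ∩ τ ⁻¹' A
      have hA'c : ∀ p ∈ A', ∀ q ∈ A', Commute p q := by
        intro p hp q hq
        set k := p * q * p⁻¹ * q⁻¹
        have hk : k ∈ N := hle ((QuotientGroup.eq_one_iff _).mp (by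
          show τ k = 1
          rw [map_mul, map_mul, map_mul, map_inv, map_inv, (hAc _ hp.2 _ hq.2).eq]
          group))
        have hkc := mem_center_iff.mp (hcen k hk)
        have hq' := hroot.conj_mem q hq.1 p
        have hcq : Commute q (p * q * p⁻¹) := by
          rw [show p * q * p⁻¹ = k * q by simp only [k]; group]
          exact (show Commute q k from hkc q).mul_right (Commute.refl q)
        have heq := LF.eq_of_mul_mem hq' hq.1 hcq.symm (by
          have hk' : p * q * p⁻¹ * q = k := by simp only [k]; rw [Inv.inv_eq hroot hq.1]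
          rw [hk']; exact hk)
        show p * q = q * p
        calc p * q = p * q * p⁻¹ * p := by group
          _ = q * p := by rw [heq]
      have hmap : closure A ≤ (closure A').map τ := by
        refine (closure_le _).2 fun z hz => ?_
        obtain ⟨d, hd, rfl⟩ := hAD hz
        exact mem_map_of_mem τ (subset_closure ⟨hd, hz⟩)
      obtain ⟨w, hw, hwy⟩ := hmap hcA
      have hwN : w ∈ N := by
        have h : ((y : L))⁻¹ * w ∈ M1 := QuotientGroup.eq.mp hwy.symm
        simpa using mul_mem (show ((y : L)) ∈ N from y.2) (hle h)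
      have hcl : ∀ z ∈ closure A', z * z = 1 ∧ ∀ p ∈ A', Commute z p := by
        intro z hz
        induction hz using closure_induction with
        | mem p hp => exact ⟨Inv.sq_eq hroot hp.1, fun r hr => hA'c p hp r hr⟩
        | one => exact ⟨one_mul 1, fun r _ => Commute.one_left r⟩
        | mul s t _ ht' hs ht =>
          have hst : Commute s t := by
            clear ht
            induction ht' using closure_induction with
            | mem r hr => exact hs.2 r hr
            | one => exact Commute.one_right s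
            | mul r v _ _ hr hv => exact hr.mul_right hv
            | inv r _ hr => exact hr.inv_right
          exact ⟨mul_self_mul hs.1 ht.1 hst, fun r hr => (hs.2 r hr).mul_left (ht.2 r hr)⟩
        | inv s _ hs => exact ⟨by rw [← mul_inv_rev, hs.1, inv_one], fun r hr => (hs.2 r hr).inv_left⟩
      have hw1 := LF.clique A' Set.inter_subset_left hA'c w hwN hw (hcl w hw).1
      rw [hw1, map_one] at hwy
      exact hyM1 ((QuotientGroup.eq_one_iff _).mp hwy.symm)
  exact hS.contradiction hI (CoverFree.fourType_of_bender hB)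

end Cfsg.Agent.H3.RootInv
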