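import Cfsg.Agent.H3.RootInv.Basic
import Cfsg.Prelude.Def_QuasithinSetup

/-!
The kernel on the blocks of a root involution set; for the components of the commuting graph with a product
of commuting members in the set it is `twoZCore`.
-/

set_option autoImplicit false
set_option linter.style.haveILetI false

namespace Cfsg.Agent.H3.RootInv

open Subgroup Cfsg.Agent.H87

variable {G : Type*} [Group G] {D : Set G} {R : G → G → Prop}

/-- Root involutions with an invariant equivalence containing commuting, with at least two blocks. -/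
structure Config (D : Set G) (R : G → G → Prop) : Prop extends BlockRel D R where
  nonempty : D.Nonempty
  disc : ∀ d ∈ D, ∃ e ∈ D, ¬ R d e

/-- Every member has a commuting member with product in the set. -/
def HasPartners (D : Set G) : Prop := ∀ c ∈ D, ∃ a ∈ D, Commute a c ∧ a * c ∈ D ∧ a ≠ c

theorem config_of_not_connected (hD : Cfsg.IsRootInvolutionSet D)
    (hc : ¬ Cfsg.IsConnectedSet (Cfsg.CommAdj D) D) : Config D (Same D) := by
  refine { blockRel_same hD with nonempty := ?_, disc := ?_ }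
  · by_contra h
    exact hc fun u hu => absurd ⟨u, hu⟩ h
  · intro d hd
    by_contra h
    push Not at h
    exact hc fun u hu v hv => same_trans (same_symm (h u hu)) (h v hv)

namespace Config

variable (C : Config D R)
include C

theorem exists_conj {a b : G} (ha : a ∈ D) (hb : b ∈ D) : ∃ g : G, g * a * g⁻¹ = b := by
  by_cases h : R a b
  · obtain ⟨c, hc, hac⟩ := C.disc a ha
    obtain ⟨g, hg, -⟩ := C.exists_conj_of_not ha hc hac
    obtain ⟨g', hg', -⟩ := C.exists_conj_of_not hc hb fun h' => hac (C.trans h (C.symm h'))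
    exact ⟨g' * g, by rw [← hg', ← hg]; group⟩
  · obtain ⟨g, hg, -⟩ := C.exists_conj_of_not ha hb h
    exact ⟨g, hg⟩

theorem hasPartners (hp : ∃ a ∈ D, ∃ b ∈ D, a ≠ b ∧ Commute a b ∧ a * b ∈ D) : HasPartners D := by
  intro c hc
  obtain ⟨a, ha, b, hb, hab, hcomm, hm⟩ := hp
  obtain ⟨g, rfl⟩ := C.exists_conj hb hc
  refine ⟨g * a * g⁻¹, C.root.conj_mem a ha g, ?_, ?_, fun h => hab (by simpa using h)⟩
  · exact hcomm.map (MulAut.conj g).toMonoidHom
  · have := C.root.conj_mem _ hm g
    rwa [show g * a * g⁻¹ * (g * b * g⁻¹) = g * (a * b) * g⁻¹ by group]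

/-- The kernel on the blocks. -/
def ker : Subgroup G := ⨅ e : D, C.stab (e : G)

theorem mem_ker {g : G} : g ∈ C.ker ↔ ∀ e ∈ D, R e (g * e * g⁻¹) := by
  simp [ker, Subgroup.mem_iInf, BlockRel.mem_stab]

theorem ker_normal : C.ker.Normal := by
  refine ⟨fun n hn g => C.mem_ker.mpr fun e he => ?_⟩
  have := C.conj g (C.mem_ker.mp hn _ (C.root.conj_mem e he g⁻¹))
  simpa [mul_assoc] using this

theorem not_mem_ker {d : G} (hd : d ∈ D) : d ∉ C.ker := fun h => by
  obtain ⟨e, he, hde⟩ := C.disc d hd
  exact hde (C.symm (C.rel_of_mem_stab hd he (C.mem_ker.mp h e he)))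

/-- Two members whose product is an involution modulo the kernel lie in one block. -/
theorem rel_of_sq_mem {a b : G} (ha : a ∈ D) (hb : b ∈ D) (h : a * b * (a * b) ∈ C.ker) : R a b := by
  haveI := C.ker_normal
  by_contra hne
  set π := QuotientGroup.mk' C.ker
  have h1 : π (a * b) = 1 := Inv.eq_one_of_odd (by rw [← map_mul]; exact (QuotientGroup.eq_one_iff _).mpr h)
    (C.odd_of_not ha hb hne).2.2.2 (by rw [← map_pow, pow_orderOf_eq_one, map_one])
  have h2 : a * b ∈ C.stab a := C.mem_ker.mp ((QuotientGroup.eq_one_iff _).mp h1) a ha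
  have h3 : b ∈ C.stab a := by
    have := mul_mem (C.mem_stab_self (C.refl a)) h2
    rwa [Inv.self_mul_cancel C.root ha] at this
  exact hne (C.rel_of_mem_stab hb ha h3)

/-- A member has no product of odd order greater than one with a kernel conjugate, given a commuting member
whose product with it is outside the kernel: it then centralises the conjugate. -/
theorem commute_conj {a c k : G} (ha : a ∈ D) (hc : c ∈ D) (hac : Commute a c) (hm : a * c ∉ C.ker)
    (hk : k ∈ C.ker) : Commute a (k * c * k⁻¹) := by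
  haveI := C.ker_normal
  set π := QuotientGroup.mk' C.ker
  have hπk : π k = 1 := (QuotientGroup.eq_one_iff k).mpr hk
  have hπ : π (a * (k * c * k⁻¹)) = π (a * c) := by simp [hπk]
  have h2 : π (a * c) * π (a * c) = 1 := by
    rw [← map_mul, mul_assoc, ← mul_assoc c, ← hac.eq, mul_assoc, Inv.sq_eq C.root hc, mul_one, Inv.sq_eq C.root ha,
      map_one]
  rcases Inv.cases' C.root ha (C.root.conj_mem c hc k) with h | h | h
  · exact h
  · exfalso
    refine hm ((QuotientGroup.eq_one_iff _).mp ?_)
    refine Inv.eq_one_of_odd h2 h.2.2.2 ?_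
    change (π (a * c)) ^ _ = 1
    rw [← hπ, ← map_pow, pow_orderOf_eq_one, map_one]
  · exfalso
    refine C.not_mem_ker (Inv.four_data C.root h).1 ((QuotientGroup.eq_one_iff _).mp ?_)
    change π ((a * (k * c * k⁻¹)) ^ 2) = 1
    rw [map_pow, hπ, pow_two, h2]

/-- With partners, a member has no product of odd order greater than one with its kernel conjugates. -/
theorem not_oddAdj (hp : HasPartners D) {c k : G} (hc : c ∈ D) (hk : k ∈ C.ker) :
    ¬ Cfsg.OddAdj D c (k * c * k⁻¹) := by
  intro hodd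
  obtain ⟨a, ha, hac, hm, -⟩ := hp c hc
  refine Inv.odd_not_commute C.root hodd ?_
  have h1 := C.commute_conj ha hc hac (C.not_mem_ker hm) hk
  have h2 := C.commute_conj hm hc (hac.mul_left (Commute.refl c)) (by
    rw [mul_assoc, Inv.sq_eq C.root hc, mul_one]; exact C.not_mem_ker ha) hk
  have := h1.mul_left h2
  rwa [Inv.self_mul_cancel C.root ha] at this

variable [Finite G]

theorem commutator_mem_pCore (hp : HasPartners D) {c k : G} (hc : c ∈ D) (hk : k ∈ C.ker) :
    k * c * k⁻¹ * c⁻¹ ∈ Cfsg.pCore 2 G := by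
  haveI := C.ker_normal
  haveI : Fact (Nat.Prime 2) := ⟨Nat.prime_two⟩
  set H := C.ker ⊔ zpowers c with hH
  have hcH : c ∈ H := mem_sup_right (mem_zpowers c)
  obtain ⟨N, hN, hNp, hcN⟩ := Thompson.baer_suzuki (G := H) (p := 2) (x := ⟨c, hcH⟩) fun g => by
    obtain ⟨k', hk', _, ⟨m, rfl⟩, hg⟩ := mem_sup_of_normal_left.mp (show (g : G) ∈ C.ker ⊔ zpowers c from g.2)
    have hgc : (g : G) * c * (g : G)⁻¹ = k' * c * k'⁻¹ := by
      rw [← hg, show k' * c ^ m * c * (k' * c ^ m)⁻¹ = k' * (c ^ m * c * (c ^ m)⁻¹) * k'⁻¹ by group,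
        (Commute.self_zpow c m).symm.eq, mul_inv_cancel_right]
    have hpp := Inv.isPGroup_pair C.root hc (C.root.conj_mem c hc k') (C.not_oddAdj hp hc hk')
    refine (hpp.comap_of_injective H.subtype H.subtype_injective).to_le ((closure_le _).2 ?_)
    rintro y (rfl | rfl)
    · exact subset_closure (Set.mem_insert _ _)
    · refine subset_closure (Set.mem_insert_of_mem _ ?_)
      simpa using hgc
  haveI := hN
  -- the part of `N` in the kernel
  set P : Subgroup C.ker := N.comap (Subgroup.inclusion (le_sup_left : C.ker ≤ H)) with hP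
  have hPp : IsPGroup 2 P := hNp.comap_of_injective _ (inclusion_injective _)
  haveI : P.Normal := hN.comap _
  have hle : P ≤ Cfsg.pCore 2 C.ker := Cores.le_pCore hPp
  have hmem : k * c * k⁻¹ * c⁻¹ ∈ C.ker := by
    rw [show k * c * k⁻¹ * c⁻¹ = k * (c * k⁻¹ * c⁻¹) by group]
    exact mul_mem hk (Normal.conj_mem inferInstance _ (inv_mem hk) c)
  have hin : (⟨_, hmem⟩ : C.ker) ∈ P := by
    show (⟨k * c * k⁻¹ * c⁻¹, _⟩ : H) ∈ N
    exact mul_mem (hN.conj_mem _ hcN ⟨k, mem_sup_left hk⟩) (inv_mem hcN)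
  exact Cores.map_pCore_le_of_normal C.ker ⟨_, hle hin, rfl⟩

theorem ker_eq_twoZCore (hp : HasPartners D) : C.ker = Cfsg.twoZCore G := by
  haveI : Fact (Nat.Prime 2) := ⟨Nat.prime_two⟩
  set π := QuotientGroup.mk' (Cfsg.pCore 2 G)
  ext g
  constructor
  · intro hg
    show π g ∈ center _
    rw [mem_center_iff]
    intro y
    obtain ⟨h, rfl⟩ := QuotientGroup.mk'_surjective _ y
    have hh : h ∈ (centralizer {π g}).comap π := by
      have : closure D ≤ (centralizer {π g}).comap π := (closure_le _).mpr fun c hc => by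
        rw [SetLike.mem_coe, mem_comap, mem_centralizer_singleton_iff]
        have h1 : π (g * c * g⁻¹ * c⁻¹) = 1 := (QuotientGroup.eq_one_iff _).mpr (C.commutator_mem_pCore hp hc hg)
        rw [map_mul, map_mul, map_mul, map_inv, map_inv, mul_inv_eq_one, mul_inv_eq_iff_eq_mul] at h1
        exact h1.symm
      exact this (C.root.generates ▸ mem_top h)
    exact (mem_centralizer_singleton_iff.mp hh)
  · intro hg
    refine C.mem_ker.mpr fun d hd => ?_
    have hd' := C.root.conj_mem d hd g
    by_contra hne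
    obtain ⟨-, -, hdne, hodd⟩ := C.odd_of_not hd hd' hne
    have hcen : π g ∈ center _ := hg
    have hmem : d * (g * d * g⁻¹) ∈ Cfsg.pCore 2 G := by
      refine (QuotientGroup.eq_one_iff _).mp ?_
      show π (d * (g * d * g⁻¹)) = 1
      rw [map_mul, map_mul, map_mul, map_inv, ← mem_center_iff.mp hcen (π d), mul_inv_cancel_right,
        ← map_mul, Inv.sq_eq C.root hd, map_one]
    obtain ⟨j, hj⟩ := Cores.pCore_isPGroup (G := G) (p := 2) ⟨_, hmem⟩
    obtain ⟨i, -, hi⟩ := (Nat.dvd_prime_pow Nat.prime_two).1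
      (orderOf_dvd_of_pow_eq_one (congrArg Subtype.val hj : (d * (g * d * g⁻¹)) ^ (2 ^ j) = 1))
    rw [hi] at hodd
    rcases Nat.eq_zero_or_pos i with rfl | hip
    · rw [pow_zero, orderOf_eq_one_iff] at hi
      exact hdne ((eq_inv_of_mul_eq_one_left hi).trans (Inv.inv_eq C.root hd'))
    · exact absurd hodd (by simp [Nat.odd_pow_iff hip.ne', show ¬ Odd 2 by decide])

end Config

end Cfsg.Agent.H3.RootInv
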