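import Cfsg.Agent.H3.RootInv.InnerProof
import Cfsg.Agent.Bridge.Bender

/-!
The dichotomy for root involutions from the strong embedding criterion alone.
-/

set_option autoImplicit false

namespace Cfsg.Agent.H3.RootInv

universe u

/-- `GoodHyp` from the criterion. -/
theorem goodHyp_of_core (hCore : CoreHyp.{u}) : GoodHyp.{u} :=
  goodHyp_of hCore (innerHyp_of Bridge.bender)

/-- S5044 from the criterion. -/
theorem dichotomy_of_core (hCore : CoreHyp.{u}) {G : Type u} [Group G] [Finite G] {D : Set G}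
    (hD : Cfsg.IsRootInvolutionSet D) (hDD : (D ∩ Cfsg.commutingProducts D).Nonempty) :
    Cfsg.IsConnectedSet (Cfsg.CommAdj D) D ∨
    (∃ (F : Type) (_ : Field F) (_ : Fintype F), CharP F 2 ∧ 4 ≤ Fintype.card F ∧
      Nonempty (G ⧸ Cfsg.twoZCore G ≃* Matrix.ProjectiveSpecialLinearGroup (Fin 2) F)) ∨
    Cfsg.Lie.IsoSuzuki (G ⧸ Cfsg.twoZCore G) ∨
    (∃ (F : Type) (_ : Field F) (_ : Fintype F) (q : ℕ), CharP F 2 ∧ Fintype.card F = q ^ 2 ∧ 4 ≤ q ∧
      Nonempty (G ⧸ Cfsg.twoZCore G ≃* Cfsg.PSU 3 F q)) :=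
  dichotomy (goodHyp_of_core hCore) Bridge.bender hD hDD

end Cfsg.Agent.H3.RootInv
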