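import Cfsg.Agent.H3.RootInv.Shift

/-!
Passing to the quotient by the kernel on the blocks: it is a faithful configuration.
-/

set_option autoImplicit false
set_option linter.style.haveILetI false

namespace Cfsg.Agent.H3.RootInv

open Subgroup Cfsg.Agent.H87

variable {G : Type*} [Group G] {D : Set G} {R : G → G → Prop}

/-- The relation induced on the image of `D`. -/
def relImage {H : Type*} [Group H] (π : G →* H) (D : Set G) (R : G → G → Prop) (x y : H) : Prop :=
  x = y ∨ ∃ a ∈ D, ∃ b ∈ D, π a = x ∧ π b = y ∧ R a b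

theorem image_root {H : Type*} [Group H] (hD : Cfsg.IsRootInvolutionSet D) {π : G →* H}
    (hπ : Function.Surjective π) (h1 : ∀ d ∈ D, π d ≠ 1) : Cfsg.IsRootInvolutionSet (π '' D) := by
  refine ⟨?_, ?_, ?_, ?_⟩
  · rintro _ ⟨d, hd, rfl⟩
    exact orderOf_eq_prime (by rw [pow_two, ← map_mul, Inv.sq_eq hD hd, map_one]) (h1 d hd)
  · rw [← MonoidHom.map_closure, hD.generates]
    exact map_top_of_surjective π hπ
  · rintro _ ⟨d, hd, rfl⟩ g
    obtain ⟨h, rfl⟩ := hπ g
    exact ⟨h * d * h⁻¹, hD.conj_mem d hd h, by simp⟩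
  · rintro _ ⟨a, ha, rfl⟩ _ ⟨b, hb, rfl⟩
    rcases hD.pair a ha b hb with h | h | ⟨h, hm⟩
    · exact Or.inl (by rw [← map_mul, h, map_mul])
    · exact Or.inr (Or.inl (by rw [← map_mul]; exact h.of_dvd_nat (orderOf_map_dvd π _)))
    · by_cases hc : (π (a * b)) ^ 2 = 1
      · left
        have h1 : (π (a * b))⁻¹ = π (a * b) := inv_eq_of_mul_eq_one_left (by rw [← pow_two, hc])
        calc π a * π b = (π (a * b))⁻¹ := by rw [h1, map_mul]
          _ = π b * π a := by rw [← map_inv, Inv.mul_inv_eq hD ha hb, map_mul]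
      · refine Or.inr (Or.inr ⟨?_, ?_⟩)
        · rw [← map_mul]
          refine orderOf_eq_prime_pow (p := 2) (n := 1) (by rwa [pow_one]) ?_
          rw [← map_pow, show (2 : ℕ) ^ (1 + 1) = orderOf (a * b) from h.symm, pow_orderOf_eq_one, map_one]
        · rw [← map_mul, ← map_pow]
          exact ⟨_, hm, rfl⟩

namespace Config

variable (C : Config D R) (N : Subgroup G) [N.Normal] (hN : N = C.ker)
include C hN

theorem mk_ne_one {d : G} (hd : d ∈ D) : QuotientGroup.mk' N d ≠ 1 := fun h =>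
  C.not_mem_ker hd (hN ▸ (QuotientGroup.eq_one_iff d).mp h)

theorem rel_of_commute_mk {a b : G} (ha : a ∈ D) (hb : b ∈ D)
    (h : Commute (QuotientGroup.mk' N a) (QuotientGroup.mk' N b)) : R a b := by
  refine C.rel_of_sq_mem ha hb (hN ▸ (QuotientGroup.eq_one_iff _).mp ?_)
  show QuotientGroup.mk' N (a * b * (a * b)) = 1
  have h1 : ∀ c ∈ D, QuotientGroup.mk' N c * QuotientGroup.mk' N c = 1 :=
    fun c hc => by rw [← map_mul, Inv.sq_eq C.root hc, map_one]
  rw [map_mul, map_mul, mul_assoc, ← mul_assoc (QuotientGroup.mk' N b), ← h.eq, mul_assoc,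
    h1 b hb, mul_one, h1 a ha]

/-- The relation on the image lifts. -/
theorem rel_of_relImage {a b : G} (ha : a ∈ D) (hb : b ∈ D)
    (h : relImage (QuotientGroup.mk' N) D R (QuotientGroup.mk' N a) (QuotientGroup.mk' N b)) : R a b := by
  rcases h with h | ⟨a', ha', b', hb', haa, hbb, hr⟩
  · exact C.rel_of_commute_mk N hN ha hb (h ▸ Commute.refl _)
  · exact C.trans (C.rel_of_commute_mk N hN ha ha' (haa ▸ Commute.refl _))
      (C.trans hr (C.rel_of_commute_mk N hN hb' hb (hbb ▸ Commute.refl _)))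

theorem quotient_faithful :
    Faithful (QuotientGroup.mk' N '' D) (relImage (QuotientGroup.mk' N) D R) := by
  set π := QuotientGroup.mk' N with hπdef
  have hlift := fun {a b : G} => C.rel_of_relImage N hN (a := a) (b := b)
  refine
    { root := image_root C.root (QuotientGroup.mk'_surjective N) fun d => C.mk_ne_one N hN
      refl := fun x => Or.inl rfl
      symm := ?_
      trans := ?_
      conj := ?_
      of_commute := ?_
      nonempty := C.nonempty.image _
      disc := ?_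
      faithful := ?_ }
  · rintro x y (rfl | ⟨a, ha, b, hb, h1, h2, h⟩)
    · exact Or.inl rfl
    · exact Or.inr ⟨b, hb, a, ha, h2, h1, C.symm h⟩
  · rintro x y z (rfl | ⟨a, ha, b, hb, h1, h2, h⟩) h'
    · exact h'
    rcases h' with rfl | ⟨b', hb', c, hc, h3, h4, h'⟩
    · exact Or.inr ⟨a, ha, b, hb, h1, h2, h⟩
    · exact Or.inr ⟨a, ha, c, hc, h1, h4,
        C.trans h (C.trans (C.rel_of_commute_mk N hN hb hb' (by rw [h3, ← h2])) h')⟩
  · rintro x y g (rfl | ⟨a, ha, b, hb, h1, h2, h⟩)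
    · exact Or.inl rfl
    · obtain ⟨w, rfl⟩ := QuotientGroup.mk'_surjective N g
      exact Or.inr ⟨w * a * w⁻¹, C.root.conj_mem a ha w, w * b * w⁻¹, C.root.conj_mem b hb w,
        by simp [π, ← h1], by simp [π, ← h2], C.conj w h⟩
  · rintro _ _ ⟨a, ha, rfl⟩ ⟨b, hb, rfl⟩ h
    exact Or.inr ⟨a, ha, b, hb, rfl, rfl, C.rel_of_commute_mk N hN ha hb h⟩
  · rintro _ ⟨d, hd, rfl⟩
    obtain ⟨e, he, hne⟩ := C.disc d hd
    exact ⟨π e, ⟨e, he, rfl⟩, fun h => hne (hlift hd he h)⟩
  · intro g hg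
    obtain ⟨h, rfl⟩ := QuotientGroup.mk'_surjective _ g
    refine (QuotientGroup.eq_one_iff h).mpr (hN ▸ C.mem_ker.mpr fun e he => ?_)
    refine hlift he (C.root.conj_mem e he h) ?_
    have := hg (π e) ⟨e, he, rfl⟩
    simpa [π] using this

theorem image_partner (hp : ∃ a ∈ D, ∃ b ∈ D, a ≠ b ∧ Commute a b ∧ a * b ∈ D) :
    ∃ a ∈ QuotientGroup.mk' N '' D, ∃ b ∈ QuotientGroup.mk' N '' D,
      a ≠ b ∧ Commute a b ∧ a * b ∈ QuotientGroup.mk' N '' D := by
  set π := QuotientGroup.mk' N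
  obtain ⟨a, ha, b, hb, -, hc, hm⟩ := hp
  refine ⟨π a, ⟨a, ha, rfl⟩, π b, ⟨b, hb, rfl⟩, fun h => ?_, hc.map π, ⟨a * b, hm, map_mul π a b⟩⟩
  exact C.mk_ne_one N hN hm (by rw [map_mul, h, ← map_mul, Inv.sq_eq C.root hb, map_one])

end Config

end Cfsg.Agent.H3.RootInv
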