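import Cfsg.Agent.H3.RootInv.InnerProof
import Cfsg.Agent.Bridge.Bender

/-!
The covering case of the criterion for involutions with a single fixed point: no central involution fixes all
points when the products of commuting members fix at most one point.  For faithful actions this last property
follows from the shift lemma.
-/

set_option autoImplicit false
set_option linter.style.haveILetI false

namespace Cfsg.Agent.H3.RootInv.RedCover

open Subgroup MulAction
open Cfsg.Agent.H39

universe u v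

section Shift

variable {G : Type u} [Group G] {Ω : Type v} [MulAction G Ω] {D : Set G}

/-- An involution fixing two points. -/
def Bad (Ω : Type v) [MulAction G Ω] (x : G) : Prop :=
  x * x = 1 ∧ x ≠ 1 ∧ ∃ p q : Ω, p ≠ q ∧ x • p = p ∧ x • q = q

theorem sq_closure {A : Set G} (hA : ∀ a ∈ A, a * a = 1) (hc : ∀ a ∈ A, ∀ b ∈ A, Commute a b) {g : G}
    (hg : g ∈ closure A) : g * g = 1 := by
  haveI : IsMulCommutative (closure A) := isMulCommutative_closure hc
  induction hg using closure_induction with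
  | mem a ha => exact hA a ha
  | one => exact one_mul 1
  | mul a b ha hb h1 h2 =>
    have hab : a * b = b * a := congrArg Subtype.val (mul_comm' (⟨a, ha⟩ : closure A) ⟨b, hb⟩)
    rw [mul_assoc, ← mul_assoc b, ← hab, mul_assoc a b, h2, mul_one, h1]
  | inv a _ h => rw [← mul_inv_rev, h, inv_one]

variable (hconj : ∀ d ∈ D, ∀ g : G, g * d * g⁻¹ ∈ D) (hinv : ∀ d ∈ D, orderOf d = 2)
  (huniq : ∀ d ∈ D, ∃! p : Ω, d • p = p) (hat : ∀ (t : G) (p : Ω), t * t = 1 → t • p = p → ∃ d ∈ D, d • p = p ∧ Commute t d)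
  (hodd : ∀ d ∈ D, ∀ e ∈ D, ∀ p q : Ω, d • p = p → e • q = q → p ≠ q → Odd (orderOf (e * d)))
include hconj hinv huniq

omit hconj hinv in
theorem fix_of_commute {d g : G} (hd : d ∈ D) (hc : Commute g d) {p : Ω} (hp : d • p = p) : g • p = p :=
  (huniq d hd).unique (by rw [← mul_smul, ← hc.eq, mul_smul, hp]) hp

include hat hodd

/-- **Shift**: a bad involution times a member commuting with it is bad. -/
theorem shift (hf : ∀ g : G, (∀ p : Ω, g • p = p) → g = 1) {x h : G} (hx : Bad Ω x) (hh : h ∈ D)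
    (hxh : Commute x h) : Bad Ω (x * h) := by
  obtain ⟨hxx, hx1, a, b, hab, hxa, hxb⟩ := hx
  have hxinv : x⁻¹ = x := inv_eq_of_mul_eq_one_left hxx
  have hnm : ∀ f ∈ D, x ≠ f := fun f hf' e => hab ((huniq f hf').unique (e ▸ hxa) (e ▸ hxb))
  obtain ⟨p, hp⟩ : ∃ p : Ω, x • p ≠ p := by
    by_contra hcon
    push Not at hcon
    exact hx1 (hf x hcon)
  obtain ⟨d, hd, hdp, -⟩ := hat 1 p (one_mul 1) (one_smul G p)
  have hd2 : d * d = 1 := mul_self_of_orderOf_eq_two (hinv d hd)
  have he : x * d * x ∈ D := by simpa [hxinv] using hconj d hd x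
  have hep : (x * d * x) • x • p = x • p := by rw [mul_smul, mul_smul, ← mul_smul x x, hxx, one_smul, hdp]
  obtain ⟨k, hk, -, hkinv, hkc⟩ := exists_conj_of_odd (hinv d hd) (hinv _ he) (hodd d hd _ he p _ hdp hep hp.symm)
  -- the middle
  obtain ⟨j, hj, hjk⟩ : ∃ j, d * j * d⁻¹ = j⁻¹ ∧ j * j = k := by
    obtain ⟨m, hm⟩ : Odd (orderOf k) := by
      obtain ⟨i, rfl⟩ := hk
      exact (hodd d hd _ he p _ hdp hep hp.symm).of_dvd_nat (orderOf_dvd_of_mem_zpowers ⟨i, rfl⟩)
    refine ⟨k ^ (m + 1), by rw [← conj_pow, hkinv, inv_pow], ?_⟩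
    rw [← pow_add, show m + 1 + (m + 1) = orderOf k + 1 by omega, pow_succ, pow_orderOf_eq_one, one_mul]
  set f := k * d with hfdef
  have hfD : f ∈ D := by
    have h1 : j * d * j⁻¹ = k * d := by
      calc j * d * j⁻¹ = j * (d * d) * j * d⁻¹ := by rw [← hj]; group
        _ = j * j * d := by rw [hd2, mul_one, inv_eq_of_mul_eq_one_left hd2]
        _ = k * d := by rw [hjk]
    rw [hfdef, ← h1]
    exact hconj d hd j
  have hxk : x * k * x⁻¹ = k⁻¹ := by
    obtain ⟨i, rfl⟩ := hk
    show x * ((x * d * x) * d) ^ i * x⁻¹ = (((x * d * x) * d) ^ i)⁻¹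
    rw [← conj_zpow, ← inv_zpow]
    congr 1
    rw [hxinv, mul_inv_rev, mul_inv_rev, mul_inv_rev, hxinv, inv_eq_of_mul_eq_one_left hd2,
      show x * (x * d * x * d) * x = (x * x) * (d * (x * d * x)) by group, hxx, one_mul]
    group
  have hxf : Commute x f := by
    show x * f = f * x
    have h1 : x * f * x⁻¹ = f := by
      calc x * f * x⁻¹ = x * k * x⁻¹ * (x * d * x⁻¹) := by rw [hfdef]; group
        _ = k⁻¹ * (k * d * k⁻¹) := by rw [hxk, hkc, hxinv]
        _ = d * k⁻¹ := by group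
        _ = f := by rw [← hkinv, hfdef]; simp [mul_assoc, inv_eq_of_mul_eq_one_left hd2]; rw [← mul_assoc d d, hd2, one_mul]
    calc x * f = x * f * x⁻¹ * x := by group
      _ = f * x := by rw [h1]
  have hfd : f * d * f⁻¹ = x * d * x⁻¹ := by
    calc f * d * f⁻¹ = k * d * k⁻¹ := by rw [hfdef]; group
      _ = x * d * x⁻¹ := by rw [hxinv]; exact hkc
  -- the centraliser of `x` is transitive on the members it centralises
  have step : ∀ {s t : G}, s ∈ D → t ∈ D → Commute x s → Commute x t → ∀ {P Q : Ω}, s • P = P → t • Q = Q →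
      P ≠ Q → ∃ g, Commute g x ∧ g * s * g⁻¹ = t := by
    intro s t hs ht hxs hxt P Q hP hQ hPQ
    obtain ⟨g, hg, -, -, hgc⟩ := exists_conj_of_odd (hinv s hs) (hinv t ht) (hodd s hs t ht P Q hP hQ hPQ)
    obtain ⟨i, rfl⟩ := hg
    exact ⟨_, ((hxt.mul_right hxs).symm.zpow_left i), hgc⟩
  have hP := (huniq f hfD).exists
  obtain ⟨P, hP⟩ := hP
  obtain ⟨Q, hQ, -⟩ := huniq h hh
  obtain ⟨g, hgx, hgh⟩ : ∃ g, Commute g x ∧ g * f * g⁻¹ = h := by
    by_cases hPQ : P = Q
    · obtain ⟨r, hr, hrP⟩ : ∃ r : Ω, x • r = r ∧ r ≠ P := by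
        by_cases e : a = P
        exacts [⟨b, hxb, fun e' => hab (e.trans e'.symm)⟩, ⟨a, hxa, e⟩]
      obtain ⟨s, hs, hsr, hsx⟩ := hat x r hxx hr
      obtain ⟨g1, hg1, hg1c⟩ := step hfD hs hxf hsx hP hsr hrP.symm
      obtain ⟨g2, hg2, hg2c⟩ := step hs hh hsx hxh hsr hQ (hPQ ▸ hrP)
      exact ⟨g2 * g1, hg2.mul_left hg1, by rw [← hg2c, ← hg1c]; group⟩
    · exact step hfD hh hxf hxh hP hQ hPQ
  -- `x * h` centralises the translate of `d`
  set E := g * d * g⁻¹
  have hhinv : h⁻¹ = h := inv_eq_of_orderOf_eq_two (hinv h hh)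
  have hxE : x * E * x⁻¹ = h * E * h⁻¹ := by
    rw [← hgh, show g * f * g⁻¹ * E * (g * f * g⁻¹)⁻¹ = g * (f * d * f⁻¹) * g⁻¹ by simp only [E]; group, hfd]
    calc x * E * x⁻¹ = (x * g) * d * (x * g)⁻¹ := by simp only [E]; group
      _ = _ := by rw [← hgx.eq]; group
  have hc : Commute (x * h) E := by
    show x * h * E = E * (x * h)
    calc x * h * E = x * (h * E * h⁻¹) * h := by group
      _ = x * (x * E * x⁻¹) * h := by rw [hxE]
      _ = (x * x) * E * x⁻¹ * h := by group
      _ = E * (x * h) := by rw [hxx, one_mul, hxinv, mul_assoc]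
  have hEp : E • g • p = g • p := H73.Bender.conj_smul_of_smul hdp
  refine ⟨(by rw [mul_assoc, ← mul_assoc h, ← hxh.eq, mul_assoc x h, mul_self_of_orderOf_eq_two (hinv h hh), mul_one, hxx]), fun h1 => hnm h hh ?_, g • p, Q, ?_,
    fix_of_commute huniq (hconj d hd g) hc hEp,
    fix_of_commute huniq hh (hxh.mul_left (Commute.refl h)) hQ⟩
  · rw [eq_inv_of_mul_eq_one_left h1, hhinv]
  · intro e
    refine hp (MulAction.injective g ?_)
    show g • x • p = g • p
    rw [← mul_smul, hgx.eq, mul_smul, e, fix_of_commute huniq hh hxh hQ]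

/-- For a faithful action the products of commuting members fix at most one point. -/
theorem free_of_faithful (hf : ∀ g : G, (∀ p : Ω, g • p = p) → g = 1) {A : Set G} (hA : A ⊆ D)
    (hc : ∀ a ∈ A, ∀ b ∈ A, Commute a b) {x : G} (hx : x ∈ closure A) (hx1 : x ≠ 1) {p q : Ω}
    (hp : x • p = p) (hq : x • q = q) : p = q := by
  by_contra hpq
  have hA2 : ∀ a ∈ A, a * a = 1 := fun a ha => mul_self_of_orderOf_eq_two (hinv a (hA ha))
  haveI : IsMulCommutative (closure A) := isMulCommutative_closure hc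
  have hxx := sq_closure hA2 hc hx
  have key : ∀ w ∈ closure A, Bad Ω (x * w) := by
    intro w hw
    induction hw using closure_induction_right with
    | one => rw [mul_one]; exact ⟨hxx, hx1, p, q, hpq, hp, hq⟩
    | mul_right y hy a ha ih =>
      rw [← mul_assoc]
      exact shift hconj hinv huniq hat hodd hf ih (hA ha)
        (congrArg Subtype.val (mul_comm' (⟨x * y, mul_mem hx hy⟩ : closure A) ⟨a, subset_closure ha⟩))
    | mul_inv_cancel y hy a ha ih =>
      rw [inv_eq_of_mul_eq_one_left (hA2 a ha), ← mul_assoc]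
      exact shift hconj hinv huniq hat hodd hf ih (hA ha)
        (congrArg Subtype.val (mul_comm' (⟨x * y, mul_mem hx hy⟩ : closure A) ⟨a, subset_closure ha⟩))
  exact (key x hx).2.1 hxx

end Shift

section Cover

variable {G : Type u} [Group G] [Finite G]

/-- A normal subgroup with central involution `w` and no further 2-elements is `w` times a normal odd subgroup. -/
theorem exists_odd_part {M : Subgroup G} [M.Normal] {w : G} (hwM : w ∈ M) (hw : orderOf w = 2)
    (hwc : ∀ g : G, Commute g w) (h2 : ∀ g ∈ M, ∀ k : ℕ, g ^ 2 ^ k = 1 → g = 1 ∨ g = w) :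
    ∃ O : Subgroup G, O.Normal ∧ O ≤ M ∧ Odd (Nat.card O) ∧ ∀ g ∈ M, g ∈ O ∨ w * g ∈ O := by
  haveI : Fact (Nat.Prime 2) := ⟨Nat.prime_two⟩
  have hww : w * w = 1 := mul_self_of_orderOf_eq_two hw
  let wM : M := ⟨w, hwM⟩
  have hwM2 : orderOf wM = 2 := by rw [← Subgroup.orderOf_coe]; exact hw
  have hwMM : wM * wM = 1 := Subtype.ext hww
  haveI : (zpowers wM).Normal := ⟨fun n hn g => by
    obtain ⟨i, rfl⟩ := hn
    rw [(show Commute g wM from Subtype.ext (hwc g).eq).zpow_right i |>.eq, mul_inv_cancel_right]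
    exact ⟨i, rfl⟩⟩
  obtain ⟨P⟩ : Nonempty (Sylow 2 M) := inferInstance
  have hmem : ∀ m : M, m ∈ zpowers wM → m = 1 ∨ m = wM := fun m hm => by
    obtain ⟨i, rfl⟩ := hm
    obtain ⟨j, rfl | rfl⟩ := Int.even_or_odd' i
    · left; show wM ^ (2 * j) = 1; rw [zpow_mul, zpow_two, hwMM, one_zpow]
    · right
      show wM ^ (2 * j + 1) = wM
      rw [zpow_add, zpow_mul, zpow_two, hwMM, one_zpow, one_mul, zpow_one]
  have hP : (P : Subgroup M) = zpowers wM := by
    refine le_antisymm (fun m hm => ?_) ?_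
    · obtain ⟨k, hk⟩ := P.isPGroup' ⟨m, hm⟩
      rcases h2 m m.2 k (congrArg (fun y : (P : Subgroup M) => ((y : M) : G)) hk) with h | h
      · exact (Subtype.ext h : m = 1) ▸ one_mem _
      · exact (Subtype.ext h : m = wM) ▸ mem_zpowers wM
    · have hp : IsPGroup 2 (zpowers wM) := IsPGroup.of_card (n := 1) (by rw [Nat.card_zpowers, hwM2, pow_one])
      exact (P.3 (P.isPGroup'.to_sup_of_normal_right hp) le_sup_left) ▸ le_sup_right
  obtain ⟨H, hH⟩ := Subgroup.exists_right_complement'_of_coprime (N := zpowers wM) (by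
    rw [Nat.card_zpowers, hwM2, ← hP]
    exact (Nat.prime_two.coprime_iff_not_dvd).mpr P.not_dvd_index)
  have hidx : H.index = 2 := by
    have h := hH.card_mul
    rw [Nat.card_zpowers, hwM2, ← H.index_mul_card] at h
    exact (Nat.eq_of_mul_eq_mul_right Nat.card_pos h).symm
  have hHodd : Odd (Nat.card H) := by
    rw [← hH.symm.index_eq_card, ← hP]
    exact Nat.not_even_iff_odd.mp fun h => P.not_dvd_index h.two_dvd
  haveI := normal_of_index_eq_two hidx
  have hofodd : ∀ m : M, Odd (orderOf m) → m ∈ H := fun m hm => by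
    rw [← QuotientGroup.eq_one_iff, ← orderOf_eq_one_iff]
    have h1 : orderOf (QuotientGroup.mk m : M ⧸ H) ∣ 2 := by
      rw [← hidx, index_eq_card]; exact orderOf_dvd_natCard _
    exact Nat.eq_one_of_dvd_coprimes (Nat.coprime_two_left.mpr hm) h1 (orderOf_map_dvd (QuotientGroup.mk' H) m)
  refine ⟨H.map M.subtype, ⟨?_⟩, map_subtype_le H, ?_, fun g hg => ?_⟩
  · rintro _ ⟨m, hm, rfl⟩ g
    refine ⟨⟨g * m * g⁻¹, (inferInstance : M.Normal).conj_mem m m.2 g⟩, hofodd _ ?_, rfl⟩
    rw [← Subgroup.orderOf_coe]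
    show Odd (orderOf (g * (m : G) * g⁻¹))
    rw [H39.orderOf_conj, Subgroup.orderOf_coe, ← Subgroup.orderOf_mk m hm]
    exact hHodd.of_dvd_nat (orderOf_dvd_natCard _)
  · rw [Nat.card_congr (equivMapOfInjective H _ M.subtype_injective).toEquiv.symm]
    exact hHodd
  · by_cases h : (⟨g, hg⟩ : M) ∈ H
    · exact Or.inl ⟨_, h, rfl⟩
    · refine Or.inr ⟨wM * ⟨g, hg⟩, ?_, rfl⟩
      refine (Subgroup.mul_mem_iff_of_index_two hidx).mpr (iff_of_false (fun hwH => ?_) h)
      have hb : wM ∈ (⊥ : Subgroup M) := hH.disjoint.le_bot ⟨mem_zpowers wM, hwH⟩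
      rw [mem_bot.mp hb, orderOf_one] at hwM2
      omega

variable {Ω : Type v} [MulAction G Ω]

/-- **The covering case**: the group is not generated by a class of involutions with a single fixed point if a central
involution fixes all points, products of commuting members fix at most one and so does any further element
squaring into the centre part. -/
theorem cover_false {z w : G} (hz : orderOf z = 2) (hgen : closure (conjugatesOf z) = ⊤)
    [IsPretransitive G Ω] (hzfix : ∃ p : Ω, z • p = p) (hne : ∃ p q : Ω, p ≠ q)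
    (hfree : ∀ A : Set G, A ⊆ conjugatesOf z → (∀ a ∈ A, ∀ b ∈ A, Commute a b) → ∀ g ∈ closure A, g ≠ 1 →
      ∀ p q : Ω, g • p = p → g • q = q → p = q)
    (hw : orderOf w = 2) (hwc : ∀ g : G, Commute g w) (hall : ∀ p : Ω, w • p = p)
    (honly : ∀ t : G, t ≠ 1 → t ≠ w → (t * t = 1 ∨ t * t = w) → ∀ p q : Ω, p ≠ q → t • p = p → t • q = q → False) :
    False := by
  haveI : Fact (Nat.Prime 2) := ⟨Nat.prime_two⟩
  obtain ⟨p0, hp0⟩ := hzfix
  obtain ⟨pa, pb, hab⟩ := hne
  have hww : w * w = 1 := mul_self_of_orderOf_eq_two hw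
  have hw1 : w ≠ 1 := fun h => by rw [h, orderOf_one] at hw; omega
  have hzz : z * z = 1 := mul_self_of_orderOf_eq_two hz
  have hz1 : z ≠ 1 := fun h => by rw [h, orderOf_one] at hz; omega
  have hD2 : ∀ d ∈ conjugatesOf z, orderOf d = 2 := fun d hd => by
    obtain ⟨g, rfl⟩ := isConj_iff.mp hd
    rw [H39.orderOf_conj, hz]
  have hDc : ∀ d ∈ conjugatesOf z, ∀ g : G, g * d * g⁻¹ ∈ conjugatesOf z := fun d hd g =>
    (show IsConj z d from hd).trans (isConj_iff.mpr ⟨g, rfl⟩)
  set N := (toPermHom G Ω).ker with hN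
  have hNmem : ∀ g : G, g ∈ N ↔ ∀ p : Ω, g • p = p := fun g => by
    rw [hN, MonoidHom.mem_ker, Equiv.ext_iff]
    rfl
  have hwN : w ∈ N := (hNmem w).mpr hall
  have hN2 : ∀ g ∈ N, ∀ k : ℕ, g ^ 2 ^ k = 1 → g = 1 ∨ g = w := by
    intro g hg k
    induction k generalizing g with
    | zero => intro h; exact Or.inl (by simpa using h)
    | succ k ih =>
      intro h
      have hsq := ih (g * g) (mul_mem hg hg) (by rw [← pow_two, ← pow_mul, ← pow_succ']; exact h)
      by_contra hcon
      push Not at hcon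
      exact honly g hcon.1 hcon.2 hsq pa pb hab ((hNmem g).mp hg pa) ((hNmem g).mp hg pb)
  obtain ⟨O, hOn, hON, hOodd, hOsplit⟩ := exists_odd_part hwN hw hwc hN2
  have hzN : z ∉ N := fun h => hab (hfree {z} (Set.singleton_subset_iff.mpr mem_conjugatesOf_self)
    (by rintro a rfl b rfl; exact Commute.refl _) z (subset_closure rfl) hz1 pa pb
    ((hNmem z).mp h pa) ((hNmem z).mp h pb))
  set π := QuotientGroup.mk' N with hπ
  have hker : ∀ x : G, π x = 1 ↔ x ∈ N := fun x => QuotientGroup.eq_one_iff x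
  -- involutions of the quotient lift to elements fixing at most one point
  have hlift : ∀ s : G ⧸ N, orderOf s = 2 → ∀ x : G, π x = s → ∃ m : ℕ,
      π (x ^ m) = s ∧ x ^ m ≠ 1 ∧ x ^ m ≠ w ∧ (x ^ m * x ^ m = 1 ∨ x ^ m * x ^ m = w) := by
    intro s hs x hxs
    obtain ⟨a, m, hm, hxm⟩ := Nat.exists_eq_pow_mul_and_not_dvd (orderOf_pos x).ne' 2 (by norm_num)
    have hss : s * s = 1 := mul_self_of_orderOf_eq_two hs
    have hπm : π (x ^ m) = s := by
      obtain ⟨i, rfl⟩ := (Nat.not_even_iff_odd.mp fun h => hm h.two_dvd : Odd m)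
      rw [map_pow, hxs, pow_succ, pow_mul, pow_two, hss, one_pow, one_mul]
    have hnotN : x ^ m ∉ N := fun h => by
      rw [(hker _).mpr h] at hπm
      rw [← hπm, orderOf_one] at hs
      omega
    refine ⟨m, hπm, fun h => hnotN (h ▸ one_mem N), fun h => hnotN (h ▸ hwN), ?_⟩
    refine hN2 _ ((hker _).mp (by rw [map_mul, hπm, hss])) a ?_
    rw [← pow_add, ← pow_mul, show (m + m) * 2 ^ a = orderOf x * 2 by rw [hxm]; ring, pow_mul, pow_orderOf_eq_one,
      one_pow]
  -- the point stabiliser is strongly embedded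
  set H := stabilizer G p0
  have hNH : N ≤ H := fun g hg => (hNmem g).mp hg p0
  set X := H.map π with hX
  have hcomap : ∀ g : G, π g ∈ X ↔ g • p0 = p0 := fun g => by
    rw [← mem_comap, hX, comap_map_eq, hπ, QuotientGroup.ker_mk', sup_eq_left.mpr hNH]
    rfl
  have hπz : orderOf (π z) = 2 :=
    orderOf_eq_two_of_mul_self (by rw [← map_mul, hzz, map_one]) fun h => hzN ((hker z).mp h)
  have hXse : Cfsg.IsStronglyEmbedded X := by
    refine ⟨fun htop => ?_, ?_, fun g hg => ?_⟩
    · obtain ⟨g, hg⟩ := exists_smul_eq G p0 pa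
      obtain ⟨k, hk⟩ := exists_smul_eq G p0 pb
      have h0 : ∀ g : G, g • p0 = p0 := fun g => (hcomap g).mp (htop ▸ mem_top _)
      exact hab (by rw [← hg, ← hk, h0, h0])
    · rw [even_iff_two_dvd, ← hπz]
      exact Subgroup.orderOf_dvd_natCard _ ((hcomap z).mpr hp0)
    · rw [← Nat.not_even_iff_odd]
      intro heven
      obtain ⟨⟨s, hs⟩, hs2⟩ := exists_prime_orderOf_dvd_card' 2 heven.two_dvd
      rw [Subgroup.orderOf_mk] at hs2
      obtain ⟨g, rfl⟩ := QuotientGroup.mk'_surjective N g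
      obtain ⟨x, rfl⟩ := QuotientGroup.mk'_surjective N s
      obtain ⟨h1, y, hy, hyx⟩ := hs
      obtain ⟨m, -, h3, h4, h5⟩ := hlift _ hs2 x rfl
      have hxp : x • p0 = p0 := (hcomap x).mp h1
      have hxq : x • g • p0 = g • p0 := by
        obtain ⟨y, rfl⟩ := QuotientGroup.mk'_surjective N y
        simp only [MulEquiv.coe_toMonoidHom, MulAut.conj_apply] at hyx
        rw [← map_inv, ← map_mul, ← map_mul] at hyx
        have hn : x⁻¹ * (g * y * g⁻¹) ∈ N := (hker _).mp (by rw [map_mul, map_inv, hyx, inv_mul_cancel])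
        have h6 := (hNmem _).mp hn (g • p0)
        rw [mul_smul, mul_smul, mul_smul, inv_smul_smul, (hcomap y).mp hy, inv_smul_eq_iff] at h6
        exact h6.symm
      exact honly _ h3 h4 h5 p0 (g • p0) (fun e => hg ((hcomap g).mpr e.symm))
        (pow_mem (show x ∈ H from hxp) m) (pow_mem (show x ∈ stabilizer G (g • p0) from hxq) m)
  have hQgen : closure (π '' conjugatesOf z) = ⊤ := by
    rw [← MonoidHom.map_closure, hgen]
    exact map_top_of_surjective π (QuotientGroup.mk'_surjective N)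
  -- a normal subgroup in the stabiliser is trivial
  have hcore : ∀ K : Subgroup (G ⧸ N), K.Normal → K ≤ X → K = ⊥ := by
    intro K hKn hKX
    refine eq_bot_iff.mpr fun k hk => ?_
    obtain ⟨k, rfl⟩ := QuotientGroup.mk'_surjective N k
    refine mem_bot.mpr ((hker k).mpr ((hNmem k).mpr fun p => ?_))
    obtain ⟨g, rfl⟩ := exists_smul_eq G p0 p
    have h := (hcomap (g⁻¹ * k * g)).mp (hKX (show π (g⁻¹ * k * g) ∈ K by
      have h0 := hKn.conj_mem _ hk (π g)⁻¹
      rwa [inv_inv, ← map_inv, ← map_mul, ← map_mul] at h0))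
    rwa [mul_smul, mul_smul, inv_smul_eq_iff] at h
  by_cases hpair : ∃ s u : G ⧸ N, orderOf s = 2 ∧ orderOf u = 2 ∧ Commute s u ∧ s ≠ u
  swap
  · -- a single class of commuting involutions
    push Not at hpair
    have htop := H76.PostBender.top_of_single hπz hpair
    set M := (Cfsg.pPrimeCore 2 (G ⧸ N)).comap π with hM
    haveI : M.Normal := inferInstance
    have hcore2 : Odd (Nat.card (Cfsg.pPrimeCore 2 (G ⧸ N))) := Cores.odd_card_oddCore
    have hMmem : ∀ g : G, g ∈ M ↔ π g ∈ Cfsg.pPrimeCore 2 (G ⧸ N) := fun g => Iff.rfl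
    have hwM : w ∈ M := by
      rw [hMmem]
      rw [(hker w).mpr hwN]
      exact one_mem _
    have hM2 : ∀ g ∈ M, ∀ k : ℕ, g ^ 2 ^ k = 1 → g = 1 ∨ g = w := by
      intro g hg k hk
      refine hN2 g ((hker g).mp (orderOf_eq_one_iff.mp ?_)) k hk
      have h1 : orderOf (π g) ∣ 2 ^ k := orderOf_dvd_of_pow_eq_one (by rw [← map_pow, hk, map_one])
      have h2 : Odd (orderOf (π g)) := by
        rw [← Subgroup.orderOf_mk (π g) ((hMmem g).mp hg)]
        exact hcore2.of_dvd_nat (orderOf_dvd_natCard _)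
      exact Nat.eq_one_of_dvd_coprimes ((Nat.coprime_two_left.mpr h2).pow_left k) h1 (dvd_refl _)
    obtain ⟨R, hRn, -, hRodd, hRsplit⟩ := exists_odd_part hwM hw hwc hM2
    set τ := QuotientGroup.mk' R with hτ
    have hτker : ∀ x : G, τ x = 1 ↔ x ∈ R := fun x => QuotientGroup.eq_one_iff x
    have hcz : Commute (τ w) (τ z) := (hwc z).symm.map τ
    have hMc : ∀ m ∈ M, τ m = 1 ∨ τ m = τ w := fun m hm => by
      rcases hRsplit m hm with h | h
      · exact Or.inl ((hτker m).mpr h)
      · right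
        have h1 := (hτker _).mpr h
        rw [map_mul] at h1
        exact (eq_inv_of_mul_eq_one_right h1).trans (by rw [← map_inv, inv_eq_of_mul_eq_one_left hww])
    have hcomm : ∀ g : G, Commute (τ g) (τ z) := by
      intro g
      haveI := (inferInstance : (Cfsg.pPrimeCore 2 (G ⧸ N)).Normal)
      obtain ⟨o, ho, c, hc, hoc⟩ := mem_sup_of_normal_left.mp (htop ▸ mem_top (π g))
      obtain ⟨c, rfl⟩ := QuotientGroup.mk'_surjective N c
      have hm : g * c⁻¹ ∈ M := by
        rw [hMmem]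
        rw [map_mul, map_inv, ← hoc, mul_inv_cancel_right]
        exact ho
      have hzc : c * z * c⁻¹ * z⁻¹ ∈ M := by
        rw [hMmem, map_mul, map_mul, map_mul, map_inv, map_inv, mem_centralizer_singleton_iff.mp hc, mul_inv_cancel_right,
          mul_inv_cancel]
        exact one_mem _
      have h1 : Commute (τ (g * c⁻¹)) (τ z) := by
        rcases hMc _ hm with h | h <;> rw [h]
        exacts [Commute.one_left _, hcz]
      have h2 : Commute (τ c) (τ z) := by
        rcases hMc _ hzc with h | h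
        · rw [map_mul, map_mul, map_mul, map_inv, map_inv, mul_inv_eq_one, mul_inv_eq_iff_eq_mul] at h
          exact h
        · -- the conjugate would be `z * w`
          exfalso
          have hR : (c * z * c⁻¹ * z⁻¹) * w ∈ R := (hτker _).mp (by rw [map_mul, h, ← map_mul, hww, map_one])
          set y := c * z * c⁻¹ with hy
          rw [inv_eq_of_mul_eq_one_left hzz, mul_assoc] at hR
          have hzw : orderOf (z * w) = 2 := orderOf_eq_two_of_mul_self (mul_self_mul hzz hww (hwc z)) fun e =>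
            hzN ((eq_inv_of_mul_eq_one_left e).trans (inv_eq_of_mul_eq_one_left hww) ▸ hwN)
          have hodd : Odd (orderOf (y * (z * w))) := by
            rw [← Subgroup.orderOf_mk _ hR]
            exact hRodd.of_dvd_nat (orderOf_dvd_natCard _)
          obtain ⟨k, -, -, -, hk⟩ := exists_conj_of_odd hzw (hD2 y (hDc z mem_conjugatesOf_self c)) hodd
          have hmem : z * w ∈ conjugatesOf z := by
            have h0 := hDc y (hDc z mem_conjugatesOf_self c) k⁻¹
            rwa [← hk, show k⁻¹ * (k * (z * w) * k⁻¹) * k⁻¹⁻¹ = z * w by group] at h0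
          exact hab (hfree {z, z * w} (Set.insert_subset mem_conjugatesOf_self (Set.singleton_subset_iff.mpr hmem))
            (by
              have h0 : Commute z (z * w) := (Commute.refl z).mul_right (hwc z)
              rintro a (rfl | rfl) b (rfl | rfl) <;> first | exact Commute.refl _ | exact h0 | exact h0.symm)
            w (by
              have h0 := mul_mem (subset_closure (Set.mem_insert z {z * w}))
                (subset_closure (Set.mem_insert_of_mem z (Set.mem_singleton (z * w))))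
              rwa [← mul_assoc, hzz, one_mul] at h0) hw1 pa pb (hall pa) (hall pb))
      have := h1.mul_left h2
      rwa [← map_mul, inv_mul_cancel_right] at this
    have hone : ∀ g : G, τ g = 1 ∨ τ g = τ z := by
      intro g
      have hg : g ∈ closure (conjugatesOf z) := hgen ▸ mem_top g
      induction hg using closure_induction with
      | mem d hd =>
        obtain ⟨k, rfl⟩ := isConj_iff.mp hd
        right
        rw [map_mul, map_mul, (hcomm k).eq, map_inv, mul_inv_cancel_right]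
      | one => exact Or.inl (map_one τ)
      | mul a b _ _ ha hb =>
        rcases ha with ha | ha <;> rcases hb with hb | hb <;> simp only [map_mul, ha, hb]
        · exact Or.inl (one_mul 1)
        · exact Or.inr (one_mul _)
        · exact Or.inr (mul_one _)
        · exact Or.inl (by rw [← map_mul, hzz, map_one])
      | inv a _ ha =>
        rcases ha with ha | ha <;> simp only [map_inv, ha]
        · exact Or.inl inv_one
        · exact Or.inr (by rw [← map_inv, inv_eq_of_mul_eq_one_left hzz])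
    rcases hone w with h | h
    · have hd := orderOf_dvd_natCard (⟨w, (hτker w).mp h⟩ : R)
      rw [Subgroup.orderOf_mk, hw, ← even_iff_two_dvd] at hd
      exact Nat.not_even_iff_odd.mpr hRodd hd
    · have hzw : z * w ∈ R := (hτker _).mp (by rw [map_mul, h, ← map_mul, hzz, map_one])
      have hzw2 : orderOf (z * w) = 2 := orderOf_eq_two_of_mul_self (mul_self_mul hzz hww (hwc z)) fun e =>
        hzN ((eq_inv_of_mul_eq_one_left e).trans (inv_eq_of_mul_eq_one_left hww) ▸ hwN)
      have hd := orderOf_dvd_natCard (⟨_, hzw⟩ : R)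
      rw [Subgroup.orderOf_mk, hzw2, ← even_iff_two_dvd] at hd
      exact Nat.not_even_iff_odd.mpr hRodd hd
  -- Bender's list
  obtain ⟨s, u, hs, hu, hsu, hne'⟩ := hpair
  obtain ⟨hOX, hB, -, -⟩ := H76.PostBender.quotient_structure Bridge.bender hXse hs hu hsu hne'
  have hbot : Cfsg.oddCore (G ⧸ N) = ⊥ := hcore _ inferInstance hOX
  set σ := QuotientGroup.mk' (Cfsg.oddCore (G ⧸ N)) with hσ
  have hinj : Function.Injective σ := by
    rw [← MonoidHom.ker_eq_bot_iff, hσ, QuotientGroup.ker_mk', hbot]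
  have htop : H76.PostBender.involClosure ((G ⧸ N) ⧸ Cfsg.oddCore (G ⧸ N)) = ⊤ := by
    rw [eq_top_iff, ← map_top_of_surjective σ (QuotientGroup.mk'_surjective _), ← hQgen, MonoidHom.map_closure]
    refine closure_mono ?_
    rintro _ ⟨_, ⟨e, he, rfl⟩, rfl⟩
    show orderOf (σ (π e)) = 2
    rw [orderOf_injective σ hinj]
    obtain ⟨g, rfl⟩ := isConj_iff.mp he
    rw [map_mul, map_mul, map_inv, H39.orderOf_conj, hπz]
  let e1 : (G ⧸ N) ≃* ↥(H76.PostBender.involClosure ((G ⧸ N) ⧸ Cfsg.oddCore (G ⧸ N))) :=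
    ((MulEquiv.ofBijective σ ⟨hinj, QuotientGroup.mk'_surjective _⟩).trans
      Subgroup.topEquiv.symm).trans (MulEquiv.subgroupCongr htop.symm)
  have hB' : H76.PostBender.IsBenderGroup (G ⧸ N) := by
    rcases hB with ⟨K, i1, i2, hch, h4, ⟨e⟩⟩ | h | ⟨K, i1, i2, q, hK, hq, h4, ⟨e⟩⟩
    · exact Or.inl ⟨K, i1, i2, hch, h4, ⟨e1.trans e⟩⟩
    · refine Or.inr (Or.inl ?_)
      obtain ⟨K, i1, i2, σ, h1, h2, ⟨e⟩⟩ := h
      exact ⟨K, i1, i2, σ, h1, h2, ⟨e1.trans e⟩⟩
    · exact Or.inr (Or.inr ⟨K, i1, i2, q, hK, hq, h4, ⟨e1.trans e⟩⟩)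
  have hcen : center (G ⧸ N) = ⊥ := hcore _ inferInstance fun k hk => by
    obtain ⟨k, rfl⟩ := QuotientGroup.mk'_surjective N k
    refine (hcomap k).mpr ?_
    have hc := mem_center_iff.mp hk (π z)
    -- `k * z * k⁻¹` and `z` have the same image
    have hn : z⁻¹ * (k * z * k⁻¹) ∈ N := (hker _).mp (by
      rw [map_mul, map_inv, map_mul, map_mul, map_inv, ← hc, mul_inv_cancel_right, inv_mul_cancel])
    have hzk : z • k • p0 = k • p0 := by
      have h := (hNmem _).mp hn (k • p0)
      rw [mul_smul, mul_smul, mul_smul, inv_smul_smul, hp0, inv_smul_eq_iff] at h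
      exact h.symm
    exact hfree {z} (Set.singleton_subset_iff.mpr mem_conjugatesOf_self)
      (by rintro a rfl b rfl; exact Commute.refl _) z (subset_closure rfl) hz1 _ _ hzk hp0
  have hI := invData_of_se hB' hXse hcen
  haveI := hOn
  set τ := QuotientGroup.mk' O with hτ
  have hτker : ∀ x : G, τ x = 1 ↔ x ∈ O := fun x => QuotientGroup.eq_one_iff x
  set π1 : G ⧸ O →* G ⧸ N := QuotientGroup.map O N (MonoidHom.id G) (fun x hx => hON hx)
  have hπ1 : ∀ x : G, π1 (τ x) = π x := fun x => rfl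
  set c := τ w
  set D := τ '' conjugatesOf z with hD
  have hOone : ∀ x ∈ O, x * x = 1 → x = 1 := fun x hx hxx => by
    by_contra hx1
    have hd := orderOf_dvd_natCard (⟨x, hx⟩ : O)
    rw [Subgroup.orderOf_mk, orderOf_eq_prime (p := 2) (by rw [pow_two, hxx]) hx1, ← even_iff_two_dvd] at hd
    exact Nat.not_even_iff_odd.mpr hOodd hd
  have hc1 : c ≠ 1 := fun h => hw1 (hOone w ((hτker w).mp h) hww)
  have hcc : c * c = 1 := by rw [← map_mul, hww, map_one]
  have hccen : ∀ y : G ⧸ O, Commute c y := fun y => by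
    obtain ⟨x, rfl⟩ := QuotientGroup.mk'_surjective O y
    exact (hwc x).symm.map τ
  have hk1 : ∀ y : G ⧸ O, π1 y = 1 → y = 1 ∨ y = c := fun y hy => by
    obtain ⟨x, rfl⟩ := QuotientGroup.mk'_surjective O y
    rcases hOsplit x ((hker x).mp hy) with h | h
    · exact Or.inl ((hτker x).mpr h)
    · refine Or.inr ?_
      have h1 := (hτker _).mpr h
      rw [map_mul] at h1
      exact (eq_inv_of_mul_eq_one_right h1).trans (inv_eq_of_mul_eq_one_left hcc)
  have hfreeL : ∀ A : Set (G ⧸ O), A ⊆ D → (∀ a ∈ A, ∀ b ∈ A, Commute a b) → c ∉ closure A := by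
    intro A hAD hAc hcA
    set E := closure A
    have hE : IsPGroup 2 E := fun y => ⟨1, Subtype.ext (by
      show (y : G ⧸ O) ^ 2 ^ 1 = 1
      rw [pow_one, pow_two]
      exact sq_closure (fun a ha => by
        obtain ⟨d, hd, rfl⟩ := hAD ha
        rw [← map_mul, mul_self_of_orderOf_eq_two (hD2 d hd), map_one]) hAc y.2)⟩
    set E' := E.comap τ
    obtain ⟨P⟩ : Nonempty (Sylow 2 E') := inferInstance
    let φ : E' →* E := τ.subgroupComap E
    have hφ : Function.Surjective φ := fun y => by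
      obtain ⟨x, hx⟩ := QuotientGroup.mk'_surjective O (y : G ⧸ O)
      exact ⟨⟨x, show τ x ∈ E from hx.symm ▸ y.2⟩, Subtype.ext hx⟩
    have hPtop : ∀ y ∈ E, ∃ x : G, ∃ hx : x ∈ E', (⟨x, hx⟩ : E') ∈ P ∧ τ x = y := by
      intro y hy
      have h1 : (P.mapSurjective hφ : Subgroup E) = ⊤ :=
        (P.mapSurjective hφ).3 (Q := ⊤) (hE.to_subgroup _) le_top |>.symm
      have h2 : (⟨y, hy⟩ : E) ∈ (P.mapSurjective hφ : Subgroup E) := h1 ▸ mem_top _
      obtain ⟨x, hx, hxy⟩ := h2
      exact ⟨x, x.2, hx, congrArg Subtype.val hxy⟩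
    have hPone : ∀ x : G, ∀ hx : x ∈ E', (⟨x, hx⟩ : E') ∈ P → τ x = 1 → x = 1 := by
      intro x hx hxP h
      obtain ⟨k, hk⟩ := P.isPGroup' ⟨_, hxP⟩
      have hk' : x ^ 2 ^ k = 1 := congrArg (fun t : (P : Subgroup E') => ((t : E') : G)) hk
      rw [← orderOf_eq_one_iff]
      have h1 : orderOf x ∣ Nat.card O := by
        rw [← Subgroup.orderOf_mk x ((hτker x).mp h)]; exact orderOf_dvd_natCard _
      exact Nat.eq_one_of_dvd_coprimes ((Nat.coprime_two_left.mpr hOodd).pow_left k) (orderOf_dvd_of_pow_eq_one hk') h1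
    set A' := {x : G | x ∈ conjugatesOf z ∧ ∃ hx : x ∈ E', (⟨x, hx⟩ : E') ∈ P}
    have hA'c : ∀ a ∈ A', ∀ b ∈ A', Commute a b := by
      rintro a ⟨-, ha, haP⟩ b ⟨-, hb, hbP⟩
      have hcE : Commute (τ a) (τ b) := by
        haveI : IsMulCommutative E := isMulCommutative_closure hAc
        exact congrArg Subtype.val (mul_comm' (⟨τ a, ha⟩ : E) ⟨τ b, hb⟩)
      have h1 := hPone (a * b * a⁻¹ * b⁻¹) (mul_mem (mul_mem (mul_mem ha hb) (inv_mem ha)) (inv_mem hb))
        (mul_mem (mul_mem (mul_mem haP hbP) (inv_mem haP)) (inv_mem hbP))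
        (by rw [map_mul, map_mul, map_mul, map_inv, map_inv, hcE.eq, mul_inv_cancel_right, mul_inv_cancel])
      exact mul_inv_eq_iff_eq_mul.mp (mul_inv_eq_one.mp h1)
    have hmap : E ≤ (closure A').map τ := by
      refine (closure_le _).2 fun a ha => ?_
      obtain ⟨d, hd, rfl⟩ := hAD ha
      obtain ⟨x, hx, hxP, hxd⟩ := hPtop (τ d) (subset_closure ha)
      refine hxd ▸ mem_map_of_mem τ (subset_closure ⟨?_, hx, hxP⟩)
      have hdd := mul_self_of_orderOf_eq_two (hD2 d hd)
      have hxx : x * x = 1 := hPone _ (mul_mem hx hx) (mul_mem hxP hxP) (by rw [map_mul, hxd, ← map_mul, hdd, map_one])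
      have hxO : d * x ∈ O := (hτker _).mp (by rw [map_mul, hxd, ← map_mul, hdd, map_one])
      have hx2 : orderOf x = 2 := orderOf_eq_two_of_mul_self hxx fun e => by
        rw [e, map_one] at hxd
        exact hD2 d hd |> fun h2 => by
          rw [hOone d ((hτker d).mp hxd.symm) hdd, orderOf_one] at h2
          omega
      obtain ⟨k, -, -, -, hk⟩ := exists_conj_of_odd hx2 (hD2 d hd)
        (by rw [← Subgroup.orderOf_mk _ hxO]; exact hOodd.of_dvd_nat (orderOf_dvd_natCard _))
      have h0 := hDc d hd k⁻¹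
      rwa [← hk, show k⁻¹ * (k * x * k⁻¹) * k⁻¹⁻¹ = x by group] at h0
    obtain ⟨g, hg, hgw⟩ := hmap hcA
    have hgg : g * g = 1 := sq_closure (fun a ha => mul_self_of_orderOf_eq_two (hD2 a ha.1)) hA'c hg
    have hgw' : g = w := by
      have h1 := hOone (g * w) ((hτker _).mp (by rw [map_mul, hgw, ← map_mul, hww, map_one]))
        (mul_self_mul hgg hww (hwc g))
      exact (eq_inv_of_mul_eq_one_left h1).trans (inv_eq_of_mul_eq_one_left hww)
    exact hab (hfree A' (fun a ha => ha.1) hA'c g hg (hgw' ▸ hw1) pa pb (hgw' ▸ hall pa) (hgw' ▸ hall pb))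
  have hLsq : ∀ d ∈ D, d * d = 1 ∧ d ≠ 1 := by
    rintro _ ⟨d, hd, rfl⟩
    refine ⟨by rw [← map_mul, mul_self_of_orderOf_eq_two (hD2 d hd), map_one], fun h => ?_⟩
    have h2 := hD2 d hd
    rw [hOone d ((hτker d).mp h) (mul_self_of_orderOf_eq_two h2), orderOf_one] at h2
    omega
  have hLconj : ∀ d ∈ D, ∀ g : G ⧸ O, g * d * g⁻¹ ∈ D := by
    rintro _ ⟨d, hd, rfl⟩ g
    obtain ⟨x, rfl⟩ := QuotientGroup.mk'_surjective O g
    exact ⟨x * d * x⁻¹, hDc d hd x, by simp [τ]⟩
  -- perfectness from a commuting triple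
  have hperf : commutator (G ⧸ O) = ⊤ := by
    have member : ∀ t : G ⧸ N, orderOf t = 2 → ∃ d ∈ D, π1 d = t := fun t ht => by
      obtain ⟨g, hg⟩ := hI.conj (π z) t hπz ht
      obtain ⟨x, rfl⟩ := QuotientGroup.mk'_surjective N g
      exact ⟨τ (x * z * x⁻¹), ⟨_, hDc z mem_conjugatesOf_self x, rfl⟩, by
        rw [hπ1, ← hg]; simp [π]⟩
    have hsu2 : orderOf (s * u) = 2 := orderOf_eq_two_of_mul_self
      (mul_self_mul (mul_self_of_orderOf_eq_two hs) (mul_self_of_orderOf_eq_two hu) hsu)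
      fun e => hne' ((eq_inv_of_mul_eq_one_left e).trans (inv_eq_of_orderOf_eq_two hu))
    obtain ⟨d, hd, hds⟩ := member s hs
    obtain ⟨e, he, heu⟩ := member u hu
    obtain ⟨f, hf, hfsu⟩ := member (s * u) hsu2
    have comm : ∀ a ∈ D, ∀ b ∈ D, Commute (π1 a) (π1 b) → Commute a b := by
      intro a ha b hb h
      have hb' := hLconj b hb a
      rcases hk1 (a * b * a⁻¹ * b⁻¹) (by
        rw [map_mul, map_mul, map_mul, map_inv, map_inv, h.eq, mul_inv_cancel_right, mul_inv_cancel]) with h1 | h1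
      · exact mul_inv_eq_iff_eq_mul.mp (mul_inv_eq_one.mp h1)
      · exfalso
        have hcb : Commute (a * b * a⁻¹) b := by
          rw [mul_inv_eq_iff_eq_mul.mp h1]
          exact (hccen b).mul_left (Commute.refl b)
        refine hfreeL {a * b * a⁻¹, b} (Set.insert_subset hb' (Set.singleton_subset_iff.mpr hb))
          (by rintro p (rfl | rfl) q (rfl | rfl) <;> first | exact Commute.refl _ | exact hcb | exact hcb.symm)
          (h1 ▸ mul_mem (subset_closure (Set.mem_insert _ _)) (inv_mem (subset_closure (Set.mem_insert_of_mem _ rfl))))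
    have hde : Commute d e := comm d hd e he (by rw [hds, heu]; exact hsu)
    have hdf : Commute d f := comm d hd f hf (by rw [hds, hfsu]; exact (Commute.refl s).mul_right hsu)
    have hef : Commute e f := comm e he f hf (by rw [heu, hfsu]; exact hsu.symm.mul_right (Commute.refl u))
    have hdef : d * e * f = 1 := by
      have h0 : π1 (d * e * f) = 1 := by
        rw [map_mul, map_mul, hds, heu, hfsu]
        exact mul_self_mul (mul_self_of_orderOf_eq_two hs) (mul_self_of_orderOf_eq_two hu) hsu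
      refine (hk1 _ h0).resolve_right fun h => ?_
      refine hfreeL {d, e, f} (Set.insert_subset hd (Set.insert_subset he (Set.singleton_subset_iff.mpr hf)))
        (by rintro p (rfl | rfl | rfl) q (rfl | rfl | rfl) <;>
          first | exact Commute.refl _ | exact hde | exact hde.symm | exact hdf | exact hdf.symm | exact hef |
            exact hef.symm) (h ▸ mul_mem (mul_mem (subset_closure (Set.mem_insert _ _))
          (subset_closure (Set.mem_insert_of_mem _ (Set.mem_insert _ _))))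
          (subset_closure (Set.mem_insert_of_mem _ (Set.mem_insert_of_mem _ rfl))))
    set ρ := Abelianization.of (G := G ⧸ O)
    have hsame : ∀ a ∈ D, ρ a = ρ (τ z) := by
      rintro _ ⟨a, ha, rfl⟩
      obtain ⟨k, rfl⟩ := isConj_iff.mp ha
      rw [map_mul, map_mul, map_mul, map_mul, map_inv, map_inv, mul_comm (ρ (τ k)), mul_inv_cancel_right]
    have h3 : ρ (τ z) * ρ (τ z) * ρ (τ z) = 1 := by
      have := congrArg ρ hdef
      rwa [map_mul, map_mul, map_one, hsame d hd, hsame e he, hsame f hf] at this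
    rw [← map_mul ρ, ← map_mul τ, hzz, map_one, map_one, one_mul] at h3
    rw [eq_top_iff, ← map_top_of_surjective τ (QuotientGroup.mk'_surjective _), ← hgen, MonoidHom.map_closure,
      closure_le, ← Abelianization.ker_of]
    intro a ha
    exact (hsame a ha).trans h3
  have hS : CoverFree.Setup π1 D c :=
    ⟨fun y => by
      obtain ⟨x, rfl⟩ := QuotientGroup.mk'_surjective N y
      exact ⟨τ x, rfl⟩,
    by rw [hD, ← MonoidHom.map_closure, hgen]; exact map_top_of_surjective τ (QuotientGroup.mk'_surjective _),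
    hLsq, hLconj, hperf, hc1, hcc, hccen, hk1, hfreeL⟩
  exact hS.contradiction hI (CoverFree.fourType_of_bender hB')

end Cover

end Cfsg.Agent.H3.RootInv.RedCover
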