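import Cfsg.Agent.H3.RootInv.Kernel

/-!
The shift lemma, and a member of a root involution set central in a Sylow 2-subgroup.
-/

set_option autoImplicit false
set_option linter.style.haveILetI false

namespace Cfsg.Agent.H3.RootInv

open Subgroup Cfsg.Agent.H87
open scoped commutatorElement

variable {G : Type*} [Group G] {D : Set G} {R : G → G → Prop}

/-- An involution centralising members of two components. -/
def TwoComp (D : Set G) (R : G → G → Prop) (x : G) : Prop :=
  x * x = 1 ∧ x ≠ 1 ∧ ∃ a ∈ D, ∃ b ∈ D, Commute x a ∧ Commute x b ∧ ¬ R a b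

/-- A faithful configuration: no non-trivial element fixes every component. -/
structure Faithful (D : Set G) (R : G → G → Prop) : Prop extends Config D R where
  faithful : ∀ g : G, (∀ e ∈ D, R e (g * e * g⁻¹)) → g = 1

namespace Faithful

variable (F : Faithful D R)
include F

/-- An involution `x` moves a component; with middle `f` and `h = g f g⁻¹` (`g` centralising `x`) the
involution `x h` centralises members of two components, unless `x = h`. -/
theorem exists_middle_moved {x : G} (hx : x * x = 1) (hx1 : x ≠ 1) :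
    ∃ f ∈ D, Commute x f ∧ ∀ g : G, Commute g x → x ≠ g * f * g⁻¹ → TwoComp D R (x * (g * f * g⁻¹)) := by
  obtain ⟨e, he, hne⟩ : ∃ e ∈ D, ¬ R e (x * e * x⁻¹) := by
    by_contra h
    push Not at h
    exact hx1 (F.faithful x h)
  have hxinv : x⁻¹ = x := inv_eq_of_mul_eq_one_left hx
  have he' := F.root.conj_mem e he x
  obtain ⟨f, hf, hfe, -, hswap⟩ := exists_middle F.root (F.odd_of_not he he' hne)
  have hxf : Commute x f := hswap x rfl (by
    rw [hxinv, show x * (x * e * x) * x = x * x * e * (x * x) by group, hx, one_mul, mul_one])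
  refine ⟨f, hf, hxf, fun g hgx hne1 => ?_⟩
  set h := g * f * g⁻¹ with hh
  have hhD : h ∈ D := F.root.conj_mem f hf g
  have hh2 : h * h = 1 := Inv.sq_eq F.root hhD
  have hxh : Commute x h := ((hgx.symm.mul_right hxf).mul_right (hgx.symm.inv_right))
  have key : x * (g * e * g⁻¹) * x⁻¹ = h * (g * e * g⁻¹) * h⁻¹ := by
    rw [hh, show g * f * g⁻¹ * (g * e * g⁻¹) * (g * f * g⁻¹)⁻¹ = g * (f * e * f⁻¹) * g⁻¹ by group, hfe,
      show x * (g * e * g⁻¹) * x⁻¹ = (x * g) * e * (x * g)⁻¹ by group, ← hgx.eq]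
    group
  refine ⟨?_, ?_, h, hhD, g * e * g⁻¹, F.root.conj_mem e he g, ?_, ?_, ?_⟩
  · rw [mul_assoc, ← mul_assoc h, ← hxh.eq, mul_assoc, hh2, mul_one, hx]
  · exact fun h1 => hne1 ((eq_inv_of_mul_eq_one_left h1).trans (inv_eq_of_mul_eq_one_left hh2))
  · exact hxh.mul_left (Commute.refl h)
  · set E := g * e * g⁻¹
    show x * h * E = E * (x * h)
    calc x * h * E = x * (h * E * h⁻¹) * x⁻¹ * (x * h) := by group
      _ = x * (x * E * x⁻¹) * x⁻¹ * (x * h) := by rw [key]
      _ = (x * x) * E * (x * x)⁻¹ * (x * h) := by group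
      _ = E * (x * h) := by rw [hx, inv_one, one_mul, mul_one]
  · intro hs
    have h1 := F.conj h hs
    rw [show h * h * h⁻¹ = h by group, ← key] at h1
    have h2 := F.trans (F.symm hs) h1
    rw [show x * (g * e * g⁻¹) * x⁻¹ = (x * g) * e * (x * g)⁻¹ by group, ← hgx.eq,
      show g * x * e * (g * x)⁻¹ = g * (x * e * x⁻¹) * g⁻¹ by group, F.conj_iff] at h2
    exact hne h2

/-- The members centralised by `x` are conjugate under its centraliser. -/
theorem exists_conj_commute {x a b : G} (hx : TwoComp D R x) (ha : a ∈ D) (hxa : Commute x a) (hb : b ∈ D)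
    (hxb : Commute x b) : ∃ g : G, Commute g x ∧ g * a * g⁻¹ = b := by
  obtain ⟨-, -, u, hu, v, hv, hxu, hxv, huv⟩ := hx
  have step : ∀ {p q : G}, p ∈ D → q ∈ D → Commute x p → Commute x q → ¬ R p q →
      ∃ g : G, Commute g x ∧ g * p * g⁻¹ = q := fun hp hq hxp hxq hpq =>
    let ⟨g, h1, h2⟩ := F.exists_conj_of_not hp hq hpq
    ⟨g, (h2 x hxp hxq).symm, h1⟩
  by_cases h : R a b
  · obtain ⟨c, hc, hxc, hac⟩ : ∃ c ∈ D, Commute x c ∧ ¬ R a c := by
      by_cases h' : R a u
      · exact ⟨v, hv, hxv, fun h'' => huv (F.trans (F.symm h') h'')⟩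
      · exact ⟨u, hu, hxu, h'⟩
    obtain ⟨g, hg, hg'⟩ := step ha hc hxa hxc hac
    obtain ⟨k, hk, hk'⟩ := step hc hb hxc hxb fun h' => hac (F.trans h (F.symm h'))
    exact ⟨k * g, hk.mul_left hg, by rw [← hk', ← hg']; group⟩
  · exact step ha hb hxa hxb h

/-- **Shift**: `x h` again centralises members of two components. -/
theorem shift {x h : G} (hx : TwoComp D R x) (hh : h ∈ D) (hxh : Commute x h) : TwoComp D R (x * h) := by
  obtain ⟨f, hf, hxf, H⟩ := F.exists_middle_moved hx.1 hx.2.1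
  obtain ⟨g, hg, rfl⟩ := F.exists_conj_commute hx hf hxf hh hxh
  refine H g hg fun heq => ?_
  obtain ⟨-, -, a, ha, b, hb, hxa, hxb, hab⟩ := hx
  rw [heq] at hxa hxb
  exact hab (F.trans (F.symm (F.of_commute hh ha hxa)) (F.of_commute hh hb hxb))

/-- The group generated by pairwise commuting members has no element centralising members of two components. -/
theorem not_twoComp {A : Set G} (hAD : A ⊆ D) (hA : ∀ a ∈ A, ∀ b ∈ A, Commute a b) {x : G}
    (hxA : x ∈ closure A) : ¬ TwoComp D R x := by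
  intro hx
  have hcomm : ∀ w ∈ closure A, ∀ a ∈ A, Commute w a := by
    intro w hw a ha
    induction hw using closure_induction with
    | mem y hy => exact hA y hy a ha
    | one => exact Commute.one_left a
    | mul y z _ _ hy hz => exact hy.mul_left hz
    | inv y _ hy => exact hy.inv_left
  have key : ∀ w ∈ closure A, TwoComp D R (x * w) := by
    intro w hw
    induction hw using closure_induction_right with
    | one => rwa [mul_one]
    | mul_right y hy a ha ih =>
      rw [← mul_assoc]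
      exact F.shift ih (hAD ha) ((hcomm x hxA a ha).mul_left (hcomm y hy a ha))
    | mul_inv_cancel y hy a ha ih =>
      rw [Inv.inv_eq F.root (hAD ha), ← mul_assoc]
      exact F.shift ih (hAD ha) ((hcomm x hxA a ha).mul_left (hcomm y hy a ha))
  exact (key x hxA).2.1 hx.1

variable [Finite G]

/-- Some member is central in a Sylow 2-subgroup. -/
theorem exists_central : ∃ d ∈ D, ∃ S : Sylow 2 G, (S : Subgroup G) ≤ centralizer {d} := by
  haveI : Fact (Nat.Prime 2) := ⟨Nat.prime_two⟩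
  obtain ⟨d0, hd0⟩ := F.nonempty
  obtain ⟨S, hS⟩ := (IsPGroup.of_card (n := 1)
    (show Nat.card (zpowers d0) = 2 ^ 1 by rw [Nat.card_zpowers, F.root.orderOf_eq d0 hd0, pow_one])).exists_le_sylow
  haveI := (S.isPGroup').isNilpotent
  set P := (S : Subgroup G)
  have hnodd : ∀ a ∈ D, a ∈ P → ∀ b ∈ D, b ∈ P → ¬ Cfsg.OddAdj D a b := by
    intro a _ haP b hbD hbP hodd
    obtain ⟨j, hj⟩ := S.isPGroup' ⟨a * b, mul_mem haP hbP⟩
    obtain ⟨i, -, hi⟩ := (Nat.dvd_prime_pow Nat.prime_two).1
      (orderOf_dvd_of_pow_eq_one (congrArg Subtype.val hj : (a * b) ^ (2 ^ j) = 1))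
    have ho := hodd.2.2.2
    rw [hi] at ho
    rcases Nat.eq_zero_or_pos i with rfl | hip
    · rw [pow_zero, orderOf_eq_one_iff] at hi
      exact hodd.2.2.1 ((eq_inv_of_mul_eq_one_left hi).trans (Inv.inv_eq F.root hbD))
    · exact absurd ho (by simp [Nat.odd_pow_iff hip.ne', show ¬ Odd 2 by decide])
  -- a lowest level element in a subset of `S`
  have low : ∀ Q : P → Prop, (∃ x, Q x) →
      ∃ x, Q x ∧ ∀ y : P, (Q ⁅x, y⁆ → False) ∨ x = 1 := by
    intro Q hQ
    classical
    obtain ⟨n, hn⟩ := Group.IsNilpotent.nilpotent (G := P)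
    have hex : ∃ i, ∃ x, Q x ∧ x ∈ Subgroup.upperCentralSeries P i :=
      ⟨n, hQ.choose, hQ.choose_spec, hn ▸ mem_top _⟩
    obtain ⟨x, hxQ, hx⟩ := Nat.find_spec hex
    refine ⟨x, hxQ, fun y => ?_⟩
    rcases Nat.eq_zero_or_pos (Nat.find hex) with h0 | hpos
    · rw [h0, Subgroup.upperCentralSeries_zero, mem_bot] at hx
      exact Or.inr hx
    · obtain ⟨i, hi⟩ := Nat.exists_eq_add_of_le' hpos
      rw [hi, Subgroup.mem_upperCentralSeries_succ_iff] at hx
      exact Or.inl fun hQy => Nat.find_min hex (show i < Nat.find hex by omega) ⟨_, hQy, hx y⟩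
  -- members central among the members of `S`
  set Z1 : Set G := {a | a ∈ D ∧ a ∈ P ∧ ∀ b ∈ D, b ∈ P → Commute a b} with hZ1
  obtain ⟨⟨a, haP⟩, haD, ha⟩ := low (fun x => (x : G) ∈ D) ⟨⟨d0, hS (mem_zpowers d0)⟩, hd0⟩
  have haZ : a ∈ Z1 := by
    refine ⟨haD, haP, fun b hb hbP => ?_⟩
    by_contra hab
    obtain ⟨hs, -, -, -, -, -⟩ := Inv.four_data F.root (Inv.four_of_not F.root haD hb hab
      (hnodd a haD haP b hb hbP))
    rcases ha ⟨b, hbP⟩ with h | h
    · refine h ?_
      show ((⁅(⟨a, haP⟩ : P), ⟨b, hbP⟩⁆ : P) : G) ∈ D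
      simp only [commutatorElement_def, Subgroup.coe_mul, Subgroup.coe_inv]
      rw [Inv.inv_eq F.root haD, Inv.inv_eq F.root hb, mul_assoc (a * b), ← pow_two]
      exact hs
    · exact Inv.ne_one F.root haD (congrArg Subtype.val h)
  have hconj : ∀ s ∈ P, ∀ w ∈ closure Z1, s * w * s⁻¹ ∈ closure Z1 := by
    intro s hs w hw
    induction hw using closure_induction with
    | mem y hy =>
      refine subset_closure ⟨F.root.conj_mem y hy.1 s, mul_mem (mul_mem hs hy.2.1) (inv_mem hs), fun b hb hbP => ?_⟩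
      have := (hy.2.2 (s⁻¹ * b * s) (by simpa using F.root.conj_mem b hb s⁻¹)
        (mul_mem (mul_mem (inv_mem hs) hbP) hs)).map (MulAut.conj s).toMonoidHom
      simpa [mul_assoc] using this
    | one => simp
    | mul y z _ _ hy hz => rw [show s * (y * z) * s⁻¹ = s * y * s⁻¹ * (s * z * s⁻¹) by group]; exact mul_mem hy hz
    | inv y _ hy => rw [show s * y⁻¹ * s⁻¹ = (s * y * s⁻¹)⁻¹ by group]; exact inv_mem hy
  have hZP : closure Z1 ≤ P := (closure_le _).2 fun y hy => hy.2.1
  have hsq' : ∀ w ∈ closure Z1, ∀ y ∈ Z1, Commute w y := by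
    intro w hw
    induction hw using closure_induction with
    | mem y hy => exact fun u hu => hy.2.2 u hu.1 hu.2.1
    | one => exact fun u _ => Commute.one_left u
    | mul y z _ _ hy hz => exact fun u hu => (hy u hu).mul_left (hz u hu)
    | inv y _ hy => exact fun u hu => (hy u hu).inv_left
  have hsq : ∀ w ∈ closure Z1, w * w = 1 ∧ ∀ y ∈ Z1, Commute w y := by
    intro w hw
    induction hw using closure_induction with
    | mem y hy => exact ⟨Inv.sq_eq F.root hy.1, fun u hu => hy.2.2 u hu.1 hu.2.1⟩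
    | one => exact ⟨one_mul 1, fun u _ => Commute.one_left u⟩
    | mul y z hy' hz' hy hz =>
      have hyz : Commute y z := by
        clear hy hz
        induction hz' using closure_induction with
        | mem u hu => exact ((hsq' y hy') u hu)
        | one => exact Commute.one_right y
        | mul u v _ _ hu hv => exact hu.mul_right hv
        | inv u _ hu => exact hu.inv_right
      exact ⟨by rw [mul_assoc, ← mul_assoc z, ← hyz.eq, mul_assoc y, hz.1, mul_one, hy.1], fun u hu => (hy.2 u hu).mul_left (hz.2 u hu)⟩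
    | inv y _ hy => exact ⟨by rw [← mul_inv_rev, hy.1, inv_one], fun u hu => (hy.2 u hu).inv_left⟩
  obtain ⟨⟨z, hzP⟩, ⟨hzZ, hz1⟩, hz⟩ := low (fun x => (x : G) ∈ closure Z1 ∧ x ≠ 1)
    ⟨⟨a, haP⟩, subset_closure haZ, fun h => Inv.ne_one F.root haD (congrArg Subtype.val h)⟩
  have hz1' : z ≠ 1 := fun h => hz1 (Subtype.ext h)
  have hzS : P ≤ centralizer {z} := by
    intro s hs
    rw [mem_centralizer_singleton_iff]
    have h := (hz ⟨s, hs⟩).resolve_right hz1
    have hc : (((⁅(⟨z, hzP⟩ : P), ⟨s, hs⟩⁆ : P)) : G) = 1 := by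
      by_contra hne
      refine h ⟨?_, fun e => hne (congrArg Subtype.val e)⟩
      simp only [commutatorElement_def, Subgroup.coe_mul, Subgroup.coe_inv]
      rw [show z * s * z⁻¹ * s⁻¹ = z * (s * z⁻¹ * s⁻¹) by group]
      exact mul_mem hzZ (hconj s hs _ (inv_mem hzZ))
    simp only [commutatorElement_def, Subgroup.coe_mul, Subgroup.coe_inv] at hc
    calc s * z = (z * s * z⁻¹ * s⁻¹)⁻¹ * (z * s) := by group
      _ = z * s := by rw [hc, inv_one, one_mul]
  by_cases hzD : z ∈ D
  · exact ⟨z, hzD, S, hzS⟩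
  exfalso
  obtain ⟨f, hf, hzf, H⟩ := F.exists_middle_moved (hsq z hzZ).1 hz1'
  -- conjugate `f` into `S` inside the centraliser of `z`
  have hfC : f ∈ centralizer {z} := mem_centralizer_singleton_iff.mpr hzf.symm.eq
  obtain ⟨T, hT⟩ := (IsPGroup.of_card (n := 1)
    (show Nat.card (zpowers (⟨f, hfC⟩ : centralizer {z})) = 2 ^ 1 by
      rw [Nat.card_zpowers, ← Subgroup.orderOf_coe, F.root.orderOf_eq f hf, pow_one])).exists_le_sylow
  obtain ⟨c, hc⟩ := MulAction.exists_smul_eq (centralizer {z}) T (S.subtype hzS)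
  have hgf : (c : G) * f * (c : G)⁻¹ ∈ P := by
    have h1 : (⟨f, hfC⟩ : centralizer {z}) ∈ (T : Subgroup (centralizer {z})) := hT (mem_zpowers _)
    have h2 : c * ⟨f, hfC⟩ * c⁻¹ ∈ ((c • T : Sylow 2 (centralizer {z})) : Subgroup (centralizer {z})) := by
      rw [Sylow.coe_subgroup_smul, mem_pointwise_smul_iff_inv_smul_mem]
      simpa [mul_assoc] using h1
    rw [hc, Sylow.coe_subtype, mem_subgroupOf] at h2
    exact h2
  have hcz : Commute (c : G) z := mem_centralizer_singleton_iff.mp c.2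
  have hfD := F.root.conj_mem f hf (c : G)
  have hne : z ≠ (c : G) * f * (c : G)⁻¹ := fun e => hzD (e ▸ hfD)
  refine F.not_twoComp (A := insert ((c : G) * f * (c : G)⁻¹) Z1) ?_ ?_ ?_ (H c hcz hne)
  · exact Set.insert_subset hfD fun y hy => hy.1
  · rintro u (rfl | hu) v (rfl | hv)
    · exact Commute.refl _
    · exact (hv.2.2 _ hfD hgf).symm
    · exact hu.2.2 _ hfD hgf
    · exact hu.2.2 v hv.1 hv.2.1
  · exact mul_mem (closure_mono (Set.subset_insert _ _) hzZ) (subset_closure (Set.mem_insert _ _))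

/-- An involution fixing a component centralises a member in it. -/
theorem exists_commute_of_fix {u d : G} (hu : u * u = 1) (hd : d ∈ D)
    (hfix : R d (u * d * u⁻¹)) : ∃ b ∈ D, R d b ∧ Commute u b := by
  haveI : Fact (Nat.Prime 2) := ⟨Nat.prime_two⟩
  obtain ⟨d0, hd0, S0, hS0⟩ := F.exists_central
  obtain ⟨g, rfl⟩ := F.exists_conj hd0 hd
  set d := g * d0 * g⁻¹
  set S := g • S0 with hSdef
  have hS : (S : Subgroup G) ≤ centralizer {d} := by
    intro x hx
    rw [hSdef, Sylow.coe_subgroup_smul, mem_pointwise_smul_iff_inv_smul_mem] at hx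
    have := mem_centralizer_singleton_iff.mp (hS0 hx)
    rw [mem_centralizer_singleton_iff]
    simp only [MulAut.smul_def, MulAut.inv_def, MulAut.conj_symm_apply, MulAut.conj_apply] at this
    calc x * d = g * (g⁻¹ * x * g * d0) * g⁻¹ := by simp only [d]; group
      _ = g * (d0 * (g⁻¹ * x * g)) * g⁻¹ := by rw [this]
      _ = d * x := by simp only [d]; group
  set M := F.stab d
  have hSM : (S : Subgroup G) ≤ M := fun x hx => by
    rw [BlockRel.mem_stab, mem_centralizer_singleton_iff.mp (hS hx), mul_inv_cancel_right]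
    exact F.refl d
  have huM : u ∈ M := hfix
  obtain ⟨T, hT⟩ := (show IsPGroup 2 (zpowers (⟨u, huM⟩ : M)) by
    rintro ⟨y, m, rfl⟩
    refine ⟨1, Subtype.ext (Subtype.ext ?_)⟩
    show (u ^ m) ^ (2 ^ 1) = 1
    rw [pow_one, ← zpow_natCast, ← zpow_mul, mul_comm, zpow_mul, zpow_natCast, pow_two, hu, one_zpow]).exists_le_sylow
  obtain ⟨m, hm⟩ := MulAction.exists_smul_eq M T (S.subtype hSM)
  have h2 : (m : G) * u * (m : G)⁻¹ ∈ centralizer {d} := by
    refine hS ?_
    have h1 : (⟨u, huM⟩ : M) ∈ (T : Subgroup M) := hT (mem_zpowers _)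
    have h2 : m * ⟨u, huM⟩ * m⁻¹ ∈ ((m • T : Sylow 2 M) : Subgroup M) := by
      rw [Sylow.coe_subgroup_smul, mem_pointwise_smul_iff_inv_smul_mem]
      simpa [mul_assoc] using h1
    rw [hm, Sylow.coe_subtype, mem_subgroupOf] at h2
    exact h2
  refine ⟨(m : G)⁻¹ * d * (m : G), by simpa using F.root.conj_mem d hd (m : G)⁻¹, ?_, ?_⟩
  · have := (inv_mem m.2 : (m : G)⁻¹ ∈ M)
    rw [BlockRel.mem_stab, inv_inv] at this
    exact this
  · show u * _ = _ * u
    have := mem_centralizer_singleton_iff.mp h2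
    calc u * ((m : G)⁻¹ * d * (m : G)) = (m : G)⁻¹ * ((m : G) * u * (m : G)⁻¹ * d) * (m : G) := by group
      _ = (m : G)⁻¹ * (d * ((m : G) * u * (m : G)⁻¹)) * (m : G) := by rw [this]
      _ = _ := by group

/-- Products of commuting members fix at most one component. -/
theorem same_of_mem_closure {A : Set G} (hAD : A ⊆ D) (hA : ∀ a ∈ A, ∀ b ∈ A, Commute a b) {x : G}
    (hxA : x ∈ closure A) (hx : x * x = 1) (hx1 : x ≠ 1) {a b : G} (ha : a ∈ D) (hb : b ∈ D)
    (hxa : R a (x * a * x⁻¹)) (hxb : R b (x * b * x⁻¹)) : R a b := by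
  by_contra hne
  obtain ⟨a', ha', haa', hxa'⟩ := F.exists_commute_of_fix hx ha hxa
  obtain ⟨b', hb', hbb', hxb'⟩ := F.exists_commute_of_fix hx hb hxb
  exact F.not_twoComp hAD hA hxA ⟨hx, hx1, a', ha', b', hb', hxa', hxb',
    fun h => hne (F.trans haa' (F.trans h (F.symm hbb')))⟩

end Faithful

end Cfsg.Agent.H3.RootInv
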